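import Mathlib.FieldTheory.IntermediateField.Adjoin.Basic
import Mathlib.FieldTheory.KummerPolynomial
import Mathlib.FieldTheory.PurelyInseparable.Basic
import Mathlib.FieldTheory.Perfect
import Mathlib.RingTheory.Unramified.Field
import Mathlib.RingTheory.Unramified.Finite
import Mathlib.RingTheory.Kaehler.Basic
import Mathlib.RingTheory.Etale.Kaehler
import Mathlib.Data.Nat.Prime.Factorial
import Mathlib.RingTheory.IntegralClosure.IntegrallyClosed

/-!
# `p`-independence and differentials

* `mem_range_of_D_eq_zero`: `K/L` with `K^p ⊆ L`, `d_{K/L} a = 0` implies `a ∈ L`.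
-/

set_option autoImplicit false

open Polynomial IntermediateField KaehlerDifferential

namespace K83.KerAlg

universe u

section Field

variable {L K : Type u} [Field L] [Field K] [Algebra L K] {p : ℕ} [hp : Fact p.Prime] [CharP K p]

theorem minpoly_eq (h : ∀ x : K, x ^ p ∈ (algebraMap L K).range) (b : K)
    (hb : b ∉ (algebraMap L K).range) : IsIntegral L b ∧ (minpoly L b).natDegree = p := by
  have : ExpChar K p := .prime hp.out
  obtain ⟨c, hc⟩ := h b
  have hirr : Irreducible (X ^ p - C c : L[X]) := by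
    apply X_pow_sub_C_irreducible_of_prime hp.out
    intro b' hb'
    apply hb
    refine ⟨b', frobenius_inj K p ?_⟩
    rw [frobenius_def, frobenius_def, ← map_pow, hb', hc]
  have hmin : X ^ p - C c = minpoly L b := by
    apply minpoly.eq_of_irreducible_of_monic hirr
    · simp only [map_sub, map_pow, aeval_X, aeval_C, hc, sub_self]
    · exact monic_X_pow_sub_C _ hp.out.ne_zero
  refine ⟨?_, by rw [← hmin, natDegree_X_pow_sub_C]⟩
  refine ⟨X ^ p - C c, monic_X_pow_sub_C _ hp.out.ne_zero, ?_⟩
  rw [← aeval_def]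
  simp only [map_sub, map_pow, aeval_X, aeval_C, hc, sub_self]

/-- If `K^p ⊆ L` and `d_{K/L} a = 0` then `a ∈ L`. -/
theorem mem_range_of_D_eq_zero (h : ∀ x : K, x ^ p ∈ (algebraMap L K).range) {a : K}
    (ha : D L K a = 0) : a ∈ (algebraMap L K).range := by
  by_contra hna
  -- a maximal intermediate field not containing `a`
  obtain ⟨E, hE⟩ : ∃ E : IntermediateField L K, Maximal (fun E : IntermediateField L K => a ∉ E) E := by
    refine zorn_le_nonempty₀ {E : IntermediateField L K | a ∉ E} ?_ ⊥ ?_ |>.imp fun E h => h.2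
    · intro c hc hchain E₀ hE₀
      have : Nonempty c := ⟨⟨E₀, hE₀⟩⟩
      refine ⟨⨆ i : c, (i : IntermediateField L K), ?_, fun E hE => le_iSup (fun i : c => (i : IntermediateField L K)) ⟨E, hE⟩⟩
      have hdir : Directed (· ≤ ·) fun i : c => (i : IntermediateField L K) := hchain.directed
      intro hmem
      have h1 : a ∈ ((⨆ i : c, (i : IntermediateField L K) : IntermediateField L K) : Set K) := hmem
      rw [coe_iSup_of_directed hdir, Set.mem_iUnion] at h1
      obtain ⟨i, hi⟩ := h1
      exact hc i.2 hi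
    · intro hb
      rw [IntermediateField.mem_bot] at hb
      exact hna hb
  have haE : a ∉ E := hE.prop
  have hmax : ∀ b : K, b ∉ E → a ∈ E⟮b⟯ := by
    intro b hb
    by_contra hab
    have h1 : E ≤ (E⟮b⟯).restrictScalars L := fun x hx =>
      (E⟮b⟯).algebraMap_mem ⟨x, hx⟩
    have h2 := hE.le_of_ge (y := (E⟮b⟯).restrictScalars L) hab h1
    exact hb (h2 (mem_adjoin_simple_self E b))
  have hE' : ∀ x : K, x ^ p ∈ (algebraMap E K).range := fun x => by
    obtain ⟨y, hy⟩ := h x
    exact ⟨algebraMap L E y, hy⟩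
  have hnot : ∀ b : K, b ∉ E → b ∉ (algebraMap E K).range := by
    rintro b hb ⟨y, rfl⟩
    exact hb y.2
  have hdeg : ∀ b : K, b ∉ E → IsIntegral E b ∧ Module.finrank E E⟮b⟯ = p := fun b hb => by
    obtain ⟨h1, h2⟩ := minpoly_eq hE' b (hnot b hb)
    exact ⟨h1, by rw [adjoin.finrank h1, h2]⟩
  have htop : E⟮a⟯ = ⊤ := by
    rw [eq_top_iff]
    intro b _
    by_cases hb : b ∈ E
    · exact (E⟮a⟯).algebraMap_mem ⟨b, hb⟩
    · have h1 : E⟮a⟯ ≤ E⟮b⟯ := adjoin_simple_le_iff.2 (hmax b hb)
      have : FiniteDimensional E E⟮b⟯ := adjoin.finiteDimensional (hdeg b hb).1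
      have h2 : E⟮a⟯ = E⟮b⟯ := eq_of_le_of_finrank_eq h1 (by rw [(hdeg a haE).2, (hdeg b hb).2])
      rw [h2]
      exact mem_adjoin_simple_self E b
  have hfin : FiniteDimensional E K := by
    have : FiniteDimensional E E⟮a⟯ := adjoin.finiteDimensional (hdeg a haE).1
    rw [htop] at this
    exact Module.Finite.equiv (IntermediateField.topEquiv (F := E) (E := K)).toLinearEquiv
  have hDa : D E K a = 0 := by
    have h1 := congrArg (KaehlerDifferential.map L E K K) ha
    rwa [map_zero, map_D] at h1
  have hadj : Algebra.adjoin E {a} = (⊤ : Subalgebra E K) := by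
    rw [← adjoin_simple_toSubalgebra_of_isAlgebraic (hdeg a haE).1.isAlgebraic, htop, top_toSubalgebra]
  have hD0 : D E K = 0 := Derivation.ext_of_adjoin_eq_top {a} hadj (by
    rintro x rfl
    rw [hDa]; rfl)
  have hsub : Subsingleton (Ω[K⁄E]) := by
    rw [← Submodule.subsingleton_iff K, ← subsingleton_iff_bot_eq_top,
      ← span_range_derivation E K, hD0, eq_comm, Submodule.span_eq_bot]
    rintro x ⟨y, rfl⟩
    rfl
  have hunr : Algebra.FormallyUnramified E K := ⟨hsub⟩
  have hsep : Algebra.IsSeparable E K := Algebra.FormallyUnramified.isSeparable E K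
  have hpi : IsPurelyInseparable E K := by
    have : CharP E p := RingHom.charP (algebraMap E K) (algebraMap E K).injective p
    have : ExpChar E p := .prime hp.out
    rw [isPurelyInseparable_iff_pow_mem E p]
    exact fun x => ⟨1, by rw [pow_one]; exact hE' x⟩
  exact hnot a haE (IsPurelyInseparable.surjective_algebraMap_of_isSeparable E K a)

/-- Elements of `K^p(t)` are of the form `∑_{i<p} c_i^p t^i`. -/
theorem exists_sum_of_mem (t a : K) (ha : a ∈ ((frobenius K p).fieldRange)⟮t⟯) :
    ∃ c : ℕ → K, a = ∑ i ∈ Finset.range p, c i ^ p * t ^ i := by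
  set F := (frobenius K p).fieldRange with hF
  have hmem : ∀ x : K, x ^ p ∈ (algebraMap F K).range := fun x => ⟨⟨x ^ p, ⟨x, rfl⟩⟩, rfl⟩
  have hpow : ∀ y : F, ∃ x : K, x ^ p = y := fun y => y.2
  choose r hr using hpow
  by_cases ht : t ∈ (algebraMap F K).range
  · obtain ⟨y, hy⟩ := ht
    have h1 : F⟮t⟯ = ⊥ := adjoin_simple_eq_bot_iff.2 (by rw [← hy]; exact (⊥ : IntermediateField F K).algebraMap_mem y)
    rw [h1, IntermediateField.mem_bot] at ha
    obtain ⟨z, hz⟩ := ha
    refine ⟨fun i => if i = 0 then r z else 0, ?_⟩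
    rw [Finset.sum_eq_single 0]
    · beta_reduce
      rw [if_pos rfl, pow_zero, mul_one, hr]; exact hz.symm
    · intro i _ hi
      beta_reduce
      rw [if_neg hi, zero_pow hp.out.ne_zero, zero_mul]
    · intro h0
      exact absurd (Finset.mem_range.2 hp.out.pos) h0
  · obtain ⟨h1, h2⟩ := minpoly_eq hmem t ht
    let B := adjoin.powerBasis h1
    have hB : B.dim = p := by rw [adjoin.powerBasis_dim, h2]
    have h3 := B.basis.sum_repr ⟨a, ha⟩
    have h4 := congrArg (algebraMap F⟮t⟯ K) h3
    rw [map_sum] at h4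
    obtain ⟨c, hc⟩ : ∃ c : ℕ → K, ∀ i : Fin B.dim, c i ^ p = B.basis.repr ⟨a, ha⟩ i :=
      ⟨fun i => if h : i < B.dim then r (B.basis.repr ⟨a, ha⟩ ⟨i, h⟩) else 0, fun i => by
        beta_reduce
        rw [dif_pos i.2, hr]⟩
    have key : a = ∑ i ∈ Finset.range B.dim, c i ^ p * t ^ i := by
      rw [Finset.sum_range]
      refine Eq.trans h4.symm (Finset.sum_congr rfl fun i _ => ?_)
      rw [hc, B.basis_eq_pow, Algebra.smul_def, map_mul, map_pow, adjoin.powerBasis_gen]
      rfl
    exact ⟨c, by rw [hB] at key; exact key⟩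

end Field

section Perfect

variable {k K : Type u} [Field k] [Field K] [Algebra k K] {p : ℕ} [hp : Fact p.Prime] [CharP K p]
  [CharP k p] [PerfectRing k p]

/-- `da ∈ K dt` implies `a ∈ K^p(t)`. -/
theorem exists_sum_of_D_eq {t a b : K} (h : D k K a = b • D k K t) :
    ∃ c : ℕ → K, a = ∑ i ∈ Finset.range p, c i ^ p * t ^ i := by
  apply exists_sum_of_mem
  set F := (frobenius K p).fieldRange with hF
  have hmem : ∀ x : K, x ^ p ∈ (algebraMap F⟮t⟯ K).range := fun x =>
    ⟨algebraMap F F⟮t⟯ ⟨x ^ p, ⟨x, rfl⟩⟩, rfl⟩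
  have h0 : ∀ x : K, D F⟮t⟯ K (x ^ p) = 0 := fun x => by
    rw [Derivation.leibniz_pow, ← Nat.cast_smul_eq_nsmul K, CharP.cast_eq_zero, zero_smul]
  have : IsScalarTower k K (Ω[K⁄F⟮t⟯]) := inferInstance
  let D' : Derivation k K (Ω[K⁄F⟮t⟯]) :=
    { toFun := D F⟮t⟯ K
      map_add' := fun x y => map_add _ x y
      map_smul' := fun c x => by
        obtain ⟨c', rfl⟩ := surjective_frobenius k p c
        rw [Algebra.smul_def, frobenius_def, map_pow, Derivation.leibniz, h0, smul_zero, add_zero,
          RingHom.id_apply, ← map_pow, algebraMap_smul]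
      map_one_eq_zero' := Derivation.map_one_eq_zero _
      leibniz' := fun x y => Derivation.leibniz _ x y }
  have h1 := congrArg D'.liftKaehlerDifferential h
  rw [map_smul, Derivation.liftKaehlerDifferential_comp_D, Derivation.liftKaehlerDifferential_comp_D] at h1
  have h2 : D' t = 0 := by
    change D F⟮t⟯ K (algebraMap F⟮t⟯ K ⟨t, mem_adjoin_simple_self F t⟩) = 0
    exact Derivation.map_algebraMap _ _
  rw [h2, smul_zero] at h1
  obtain ⟨y, hy⟩ := mem_range_of_D_eq_zero hmem h1
  rw [← hy]
  exact y.2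

omit hp [CharP k p] [PerfectRing k p] in
/-- The differential of `∑ c_i^p t^i`. -/
theorem D_sum (c : ℕ → K) (t : K) (n : ℕ) :
    D k K (∑ i ∈ Finset.range n, c i ^ p * t ^ i) =
      (∑ i ∈ Finset.range n, (i : K) * (c i ^ p * t ^ (i - 1))) • D k K t := by
  rw [map_sum, Finset.sum_smul]
  refine Finset.sum_congr rfl fun i _ => ?_
  have h0 : D k K (c i ^ p) = 0 := by
    rw [Derivation.leibniz_pow, ← Nat.cast_smul_eq_nsmul K, CharP.cast_eq_zero, zero_smul]
  rw [Derivation.leibniz, h0, smul_zero, add_zero, Derivation.leibniz_pow, ← Nat.cast_smul_eq_nsmul K,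
    smul_smul, smul_smul]
  congr 1
  ring

end Perfect

section Main

variable {k A : Type u} [Field k] [CommRing A] [Algebra k A] [IsDomain A] {E : Type*} [AddCommGroup E] [Module A E]
  (htf : ∀ (r : A) (e : E), r • e = 0 → r = 0 ∨ e = 0) (w : Ω[A⁄k] →ₗ[A] E) (t : A)
  (hw : ∀ ω, w ω = 0 → ∃ b : A, ω = b • D k A t) (hwt : w (D k A t) = 0)
  (ht : D k (FractionRing A) (algebraMap A (FractionRing A) t) ≠ 0)

include htf hwt in
/-- if `db ∈ K dt` then `w (db) = 0` -/
theorem w_eq_zero {b : A} {γ : FractionRing A}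
    (h : D k (FractionRing A) (algebraMap A _ b) = γ • D k (FractionRing A) (algebraMap A _ t)) :
    w (D k A b) = 0 := by
  obtain ⟨u, v, hv, rfl⟩ := IsFractionRing.div_surjective (A := A) γ
  have hv0 : algebraMap A (FractionRing A) v ≠ 0 := IsFractionRing.to_map_ne_zero_of_mem_nonZeroDivisors hv
  have h1 : algebraMap A (FractionRing A) v • D k (FractionRing A) (algebraMap A _ b) =
      algebraMap A (FractionRing A) u • D k (FractionRing A) (algebraMap A _ t) := by
    rw [h, smul_smul, mul_div_cancel₀ _ hv0]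
  have h2 : KaehlerDifferential.map k k A (FractionRing A) (v • D k A b - u • D k A t) = 0 := by
    rw [map_sub, map_smul, map_smul, map_D, map_D, ← algebraMap_smul (FractionRing A) v,
      ← algebraMap_smul (FractionRing A) u, h1, sub_self]
  obtain ⟨s, hs⟩ := (IsLocalizedModule.eq_zero_iff (nonZeroDivisors A)
    (KaehlerDifferential.map k k A (FractionRing A))).1 h2
  have h3 := congrArg w hs
  rw [Submonoid.smul_def, map_smul, map_sub, map_smul, map_smul, hwt, smul_zero, sub_zero, map_zero] at h3
  rcases htf _ _ h3 with h4 | h4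
  · exact absurd h4 (nonZeroDivisors.ne_zero s.2)
  · rcases htf _ _ h4 with h5 | h5
    · exact absurd h5 (nonZeroDivisors.ne_zero hv)
    · exact h5

include htf hw hwt ht in
theorem exists_delta (p : ℕ) [hp : Fact p.Prime] [CharP k p] [PerfectRing k p] {a : A} (ha : w (D k A a) = 0) {β : FractionRing A}
    (h : D k (FractionRing A) (algebraMap A _ a) = β • D k (FractionRing A) (algebraMap A _ t)) :
    ∃ b : A, w (D k A b) = 0 ∧ algebraMap A _ b = β := by
  have : CharP (FractionRing A) p := charP_of_injective_algebraMap (algebraMap k (FractionRing A)).injective p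
  obtain ⟨b, hb⟩ := hw _ ha
  have h1 : D k (FractionRing A) (algebraMap A _ a) =
      algebraMap A (FractionRing A) b • D k (FractionRing A) (algebraMap A _ t) := by
    have := congrArg (KaehlerDifferential.map k k A (FractionRing A)) hb
    rw [map_smul, map_D, map_D] at this
    rw [this, algebraMap_smul]
  have huniq : ∀ x y : FractionRing A, x • D k (FractionRing A) (algebraMap A _ t) =
      y • D k (FractionRing A) (algebraMap A _ t) → x = y := fun x y hxy => smul_left_injective _ ht hxy
  have hβ : algebraMap A (FractionRing A) b = β := huniq _ _ (h1.symm.trans h)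
  refine ⟨b, ?_, hβ⟩
  obtain ⟨c, hc⟩ := exists_sum_of_D_eq (p := p) h1
  have h2 := D_sum (k := k) (p := p) c (algebraMap A (FractionRing A) t) p
  rw [← hc, h1] at h2
  have h3 := huniq _ _ h2
  have h4 : ∃ γ : FractionRing A, D k (FractionRing A) (algebraMap A _ b) =
      γ • D k (FractionRing A) (algebraMap A _ t) := by
    rw [h3, map_sum]
    refine ⟨∑ i ∈ Finset.range p, (i : FractionRing A) * (c i ^ p * (((i - 1 : ℕ) : FractionRing A) *
      algebraMap A (FractionRing A) t ^ (i - 1 - 1))), ?_⟩
    rw [Finset.sum_smul]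
    refine Finset.sum_congr rfl fun i _ => ?_
    have h0 : D k (FractionRing A) (c i ^ p) = 0 := by
      rw [Derivation.leibniz_pow, ← Nat.cast_smul_eq_nsmul (FractionRing A), CharP.cast_eq_zero, zero_smul]
    have h0' : D k (FractionRing A) ((i : ℕ) : FractionRing A) = 0 := Derivation.map_natCast _ _
    rw [Derivation.leibniz, h0', smul_zero, add_zero, Derivation.leibniz, h0, smul_zero, add_zero,
      Derivation.leibniz_pow, ← Nat.cast_smul_eq_nsmul (FractionRing A), smul_smul, smul_smul, smul_smul]
    congr 1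
    ring
  obtain ⟨γ, hγ⟩ := h4
  exact w_eq_zero htf w t hwt hγ

include htf hw hwt ht in
/-- the iterated derivative of `∑ c_i^p t^i` -/
theorem exists_iter (p : ℕ) [hp : Fact p.Prime] [CharP k p] [PerfectRing k p] {a : A}
    (ha : w (D k A a) = 0) (c : ℕ → FractionRing A) (n : ℕ)
    (hc : algebraMap A (FractionRing A) a = ∑ i ∈ Finset.range n, c i ^ p * (algebraMap A _ t) ^ i) (j : ℕ) :
    ∃ b : A, w (D k A b) = 0 ∧ algebraMap A (FractionRing A) b =
      ∑ i ∈ Finset.range n, (i.descFactorial j : FractionRing A) * (c i ^ p * (algebraMap A _ t) ^ (i - j)) := by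
  have : CharP (FractionRing A) p := charP_of_injective_algebraMap (algebraMap k (FractionRing A)).injective p
  induction j with
  | zero => exact ⟨a, ha, by simpa using hc⟩
  | succ j ih =>
    obtain ⟨b, hb, hbc⟩ := ih
    refine exists_delta htf w t hw hwt ht p hb ?_
    rw [hbc, map_sum, Finset.sum_smul]
    refine Finset.sum_congr rfl fun i _ => ?_
    have h0 : D k (FractionRing A) (c i ^ p) = 0 := by
      rw [Derivation.leibniz_pow, ← Nat.cast_smul_eq_nsmul (FractionRing A), CharP.cast_eq_zero, zero_smul]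
    have h0' : D k (FractionRing A) ((i.descFactorial j : ℕ) : FractionRing A) = 0 :=
      Derivation.map_natCast _ _
    rw [Derivation.leibniz, h0', smul_zero, add_zero, Derivation.leibniz, h0, smul_zero, add_zero,
      Derivation.leibniz_pow, ← Nat.cast_smul_eq_nsmul (FractionRing A), smul_smul, smul_smul, smul_smul,
      Nat.descFactorial_succ, Nat.cast_mul, Nat.sub_sub]
    congr 1
    ring

include htf hw hwt ht in
theorem exists_sum_aux [IsIntegrallyClosed A] (p : ℕ) [hp : Fact p.Prime] [CharP k p] [PerfectRing k p]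
    (n : ℕ) (hn : n ≤ p) : ∀ (a : A) (_ : w (D k A a) = 0) (c : ℕ → FractionRing A)
    (_ : algebraMap A (FractionRing A) a = ∑ i ∈ Finset.range n, c i ^ p * (algebraMap A _ t) ^ i),
    ∃ c' : ℕ → A, a = ∑ i ∈ Finset.range n, c' i ^ p * t ^ i := by
  have hchar : CharP A p := charP_of_injective_algebraMap (algebraMap k A).injective p
  have : CharP (FractionRing A) p := charP_of_injective_algebraMap (algebraMap k (FractionRing A)).injective p
  induction n with
  | zero =>
    intro a _ c hc
    refine ⟨0, ?_⟩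
    rw [Finset.range_zero, Finset.sum_empty] at hc ⊢
    exact (IsFractionRing.injective A (FractionRing A)) (by rw [hc, map_zero])
  | succ n ih =>
    intro a ha c hc
    obtain ⟨b, -, hb⟩ := exists_iter htf w t hw hwt ht p ha c (n + 1) hc n
    rw [Finset.sum_range_succ, Finset.sum_eq_zero, zero_add, Nat.descFactorial_self, Nat.sub_self, pow_zero,
      mul_one] at hb
    swap
    · intro i hi
      rw [Nat.descFactorial_of_lt (Finset.mem_range.1 hi), Nat.cast_zero, zero_mul]
    have hunit : IsUnit ((n.factorial : ℕ) : A) := by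
      have h1 : ((n.factorial : ℕ) : k) ≠ 0 := by
        rw [Ne, CharP.cast_eq_zero_iff k p]
        intro hdvd
        exact absurd ((Nat.Prime.dvd_factorial hp.out).1 hdvd) (by omega)
      have h2 := (isUnit_iff_ne_zero.2 h1).map (algebraMap k A)
      rwa [map_natCast] at h2
    obtain ⟨v, hv⟩ := hunit
    have hcn : algebraMap A (FractionRing A) (↑v⁻¹ * b) = c n ^ p := by
      rw [map_mul, hb, ← mul_assoc, ← map_natCast (algebraMap A (FractionRing A)), ← map_mul, ← hv,
        Units.inv_mul, map_one, one_mul]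
    obtain ⟨c₀, hc₀⟩ := IsIntegrallyClosed.exists_algebraMap_eq_of_isIntegral_pow (R := A)
      (K := FractionRing A) (x := c n) (n := p) hp.out.pos (by rw [← hcn]; exact isIntegral_algebraMap)
    have hw' : w (D k A (a - c₀ ^ p * t ^ n)) = 0 := by
      have h0 : D k A (c₀ ^ p) = 0 := by
        rw [Derivation.leibniz_pow, ← Nat.cast_smul_eq_nsmul A, CharP.cast_eq_zero, zero_smul]
      rw [map_sub, map_sub, ha, zero_sub, neg_eq_zero, Derivation.leibniz, h0, smul_zero, add_zero,
        Derivation.leibniz_pow, map_smul, map_nsmul, map_smul, hwt, smul_zero, smul_zero, smul_zero]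
    obtain ⟨c', hc'⟩ := ih (by omega) (a - c₀ ^ p * t ^ n) hw' c (by
      rw [map_sub, hc, Finset.sum_range_succ, map_mul, map_pow, map_pow, hc₀, add_sub_cancel_right])
    refine ⟨Function.update c' n c₀, ?_⟩
    rw [Finset.sum_range_succ, Function.update_self, Finset.sum_congr rfl (g := fun i => c' i ^ p * t ^ i), ← hc',
      sub_add_cancel]
    intro i hi
    rw [Function.update_of_ne (Finset.mem_range.1 hi).ne]

include htf hw hwt ht in
/-- If `w (da) = 0` then `a = ∑_{i<p} c_i^p t^i` with `c_i ∈ A`. -/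
theorem exists_sum [IsIntegrallyClosed A] (p : ℕ) [hp : Fact p.Prime] [CharP k p] [PerfectRing k p]
    (a : A) (ha : w (D k A a) = 0) : ∃ c' : ℕ → A, a = ∑ i ∈ Finset.range p, c' i ^ p * t ^ i := by
  have : CharP (FractionRing A) p := charP_of_injective_algebraMap (algebraMap k (FractionRing A)).injective p
  obtain ⟨b, hb⟩ := hw _ ha
  have h1 : D k (FractionRing A) (algebraMap A _ a) =
      algebraMap A (FractionRing A) b • D k (FractionRing A) (algebraMap A _ t) := by
    have := congrArg (KaehlerDifferential.map k k A (FractionRing A)) hb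
    rw [map_smul, map_D, map_D] at this
    rw [this, algebraMap_smul]
  obtain ⟨c, hc⟩ := exists_sum_of_D_eq (p := p) h1
  exact exists_sum_aux htf w t hw hwt ht p p le_rfl a ha c hc

include hw in
/-- the differential of `t` is not zero if `Ω` has rank two and `E` has rank one -/
theorem D_ne_zero (e : E ≃ₗ[A] A) (b : Module.Basis (Fin 2) A (Ω[A⁄k])) :
    D k (FractionRing A) (algebraMap A (FractionRing A) t) ≠ 0 := by
  intro h0
  have h1 : D k A t = 0 := by
    have h2 : KaehlerDifferential.map k k A (FractionRing A) (D k A t) = 0 := by rw [map_D, h0]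
    obtain ⟨s, hs⟩ := (IsLocalizedModule.eq_zero_iff (nonZeroDivisors A)
      (KaehlerDifferential.map k k A (FractionRing A))).1 h2
    have h3 := congrArg b.repr hs
    rw [Submonoid.smul_def, map_smul, map_zero] at h3
    apply b.repr.injective
    rw [map_zero]
    ext i
    have h4 := DFunLike.congr_fun h3 i
    rw [Finsupp.smul_apply, smul_eq_mul, Finsupp.coe_zero, Pi.zero_apply, mul_eq_zero] at h4
    exact h4.resolve_left (nonZeroDivisors.ne_zero s.2)
  have h2 : Function.Injective w := by
    rw [injective_iff_map_eq_zero]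
    intro ω hω
    obtain ⟨c, hc⟩ := hw ω hω
    rw [hc, h1, smul_zero]
  let φ : (Fin 2 → A) →ₗ[A] (Fin 1 → A) :=
    (LinearEquiv.funUnique (Fin 1) A A).symm.toLinearMap ∘ₗ e.toLinearMap ∘ₗ w ∘ₗ b.equivFun.symm.toLinearMap
  have hφ : Function.Injective φ := by
    refine (LinearEquiv.funUnique (Fin 1) A A).symm.injective.comp (e.injective.comp (h2.comp ?_))
    exact b.equivFun.symm.injective
  have := le_of_fin_injective A φ hφ
  omega

end Main

end K83.KerAlg
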