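import Groth.Agent.Surf.K83.KerFrob
import Groth.Agent.Surf.K83.KerAlg
import Groth.Agent.Krr.H450.ConormalIso

/-!
# Exactness of `O_{X^(p)} ⟶ R_* O_X ⟶ R_* E`
-/

set_option autoImplicit false
universe u
open CategoryTheory CategoryTheory.Limits AlgebraicGeometry Opposite TopologicalSpace

namespace K83.KerExact

open Groth.Agent Groth.Agent.Fdesc Groth.Agent.Ega2.Tens CurvesB.OmegaDer CurvesB.OmegaStalkDict FrobSch K83.KerFrob
open KaehlerDifferential

section Alg

/-- On a local algebra whose differentials form a free module of rank one some `dt` is a generator. -/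
theorem exists_generator {k S : Type u} [Field k] [CommRing S] [IsLocalRing S] [Algebra k S]
    (e : Ω[S⁄k] ≃ₗ[S] S) : ∃ t : S, ∀ s : S, ∃ c : S, D k S s = c • D k S t := by
  by_cases h : ∃ t : S, IsUnit (e (D k S t))
  · obtain ⟨t, v, hv⟩ := h
    refine ⟨t, fun s => ⟨e (D k S s) * ↑v⁻¹, ?_⟩⟩
    apply e.injective
    rw [map_smul, ← hv, smul_eq_mul, mul_assoc, Units.inv_mul, mul_one]
  · exfalso
    push Not at h
    have h1 : Submodule.span S (Set.range (D k S)) ≤ Submodule.comap e.toLinearMap (IsLocalRing.maximalIdeal S) := by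
      rw [Submodule.span_le]
      rintro _ ⟨s, rfl⟩
      exact (IsLocalRing.mem_maximalIdeal _).2 (h s)
    rw [span_range_derivation] at h1
    have h2 : e.symm 1 ∈ (⊤ : Submodule S (Ω[S⁄k])) := trivial
    have h3 : e (e.symm 1) ∈ IsLocalRing.maximalIdeal S := h1 h2
    rw [e.apply_symm_apply] at h3
    exact (Ideal.ne_top_iff_one _).1 (IsLocalRing.maximalIdeal.isMaximal S).ne_top h3

theorem D_comp {k S A M : Type u} [Field k] [CommRing S] [CommRing A] [Algebra k S] [Algebra k A]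
    [Algebra S A] [IsScalarTower k S A] [AddCommGroup M] [Module A M] [Module S M] [Module k M]
    [IsScalarTower S A M] [IsScalarTower k A M] [IsScalarTower k S M] (D' : Derivation k A M) {s t c : S}
    (h : D k S s = c • D k S t) :
    D' (algebraMap S A s) = algebraMap S A c • D' (algebraMap S A t) := by
  have h1 := congrArg (D'.compAlgebraMap S).liftKaehlerDifferential h
  rw [map_smul, Derivation.liftKaehlerDifferential_comp_D, Derivation.liftKaehlerDifferential_comp_D] at h1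
  rw [algebraMap_smul]
  exact h1

end Alg

section Stalk

variable {k : Type u} [Field k] {X C : Scheme.{u}} (πX : X ⟶ Spec (CommRingCat.of k))
  [QuasiCompact (pullback.diagonal πX)] {E : X.Modules} (w : Omega.sheaf πX ⟶ E)
  (πC : C ⟶ Spec (CommRingCat.of k)) [QuasiCompact (pullback.diagonal πC)] (f : X ⟶ C)

omit [QuasiCompact (pullback.diagonal πX)] [QuasiCompact (pullback.diagonal πC)] in
theorem stalkMap_stHom (hf : f ≫ πC = πX) (x : X) (a : k) :
    f.stalkMap x (stHom πC (f x) a) = stHom πX x a := by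
  subst hf
  refine (Scheme.Hom.germ_stalkMap_apply f ⊤ x trivial _).trans ?_
  change X.presheaf.germ ⊤ x trivial _ = X.presheaf.germ ⊤ x trivial _
  congr 1

/-- the differentials of the functions from the curve are generated by one of them -/
theorem exists_dSt_generator (hf : f ≫ πC = πX) (hΩC : FlatMod.IsFinLocFreeOfRank 1 (Omega.sheaf πC)) (x : X) :
    ∃ t : C.presheaf.stalk (f x), ∀ s : C.presheaf.stalk (f x), ∃ c : C.presheaf.stalk (f x),
      dSt πX x (f.stalkMap x s) = f.stalkMap x c • dSt πX x (f.stalkMap x t) := by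
  let _ := stAlg πC (f x)
  let _ := stMod πC (Omega.sheaf πC) (f x)
  have _ := stTower πC (Omega.sheaf πC) (f x)
  let _ := stAlg πX x
  let _ := stMod πX (Omega.sheaf πX) x
  have _ := stTower πX (Omega.sheaf πX) x
  obtain ⟨b⟩ := Krr.H450.ConormalIso.exists_basis_stalk hΩC (f x)
  let e : Ω[C.presheaf.stalk (f x)⁄k] ≃ₗ[C.presheaf.stalk (f x)] C.presheaf.stalk (f x) :=
    (LinearEquiv.ofBijective _ (bijective_stDer πC (f x))).trans
      (b.equivFun.trans (LinearEquiv.funUnique (Fin 1) _ _))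
  obtain ⟨t, ht⟩ := exists_generator e
  refine ⟨t, fun s => ?_⟩
  obtain ⟨c, hc⟩ := ht s
  refine ⟨c, ?_⟩
  let _ : Algebra (C.presheaf.stalk (f x)) (X.presheaf.stalk x) := (f.stalkMap x).hom.toAlgebra
  let _ : Module (C.presheaf.stalk (f x)) ((Omega.sheaf πX).presheaf.stalk x) :=
    Module.compHom _ (f.stalkMap x).hom
  have _ : IsScalarTower k (C.presheaf.stalk (f x)) (X.presheaf.stalk x) :=
    IsScalarTower.of_algebraMap_eq fun a => (stalkMap_stHom πX πC f hf x a).symm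
  have _ : IsScalarTower (C.presheaf.stalk (f x)) (X.presheaf.stalk x)
      ((Omega.sheaf πX).presheaf.stalk x) := ⟨fun a b c => by
    rw [Algebra.smul_def, mul_smul]
    rfl⟩
  have _ : IsScalarTower k (C.presheaf.stalk (f x)) ((Omega.sheaf πX).presheaf.stalk x) := ⟨fun a b c => by
    rw [Algebra.smul_def, mul_smul]
    exact congrArg (fun z : X.presheaf.stalk x => z • (b • c)) (stalkMap_stHom πX πC f hf x a)⟩
  exact D_comp (stDer πX x) hc

/-- **The stalk statement.** -/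
theorem exists_sum_stalk (p : ℕ) [Fact p.Prime] [CharP k p] [PerfectRing k p] (hf : f ≫ πC = πX)
    (hX : Pi1.IsNormalScheme X) (hΩC : FlatMod.IsFinLocFreeOfRank 1 (Omega.sheaf πC))
    (hΩ : FlatMod.IsFinLocFreeOfRank 2 (Omega.sheaf πX)) (hE : FlatMod.IsFinLocFreeOfRank 1 E) (x : X)
    (hw : ∀ s : C.presheaf.stalk (f x), CycB.StalkExact.stalkLin w x (dSt πX x (f.stalkMap x s)) = 0)
    (hker : ∀ ω : (Omega.sheaf πX).presheaf.stalk x, CycB.StalkExact.stalkLin w x ω = 0 →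
      ω ∈ Submodule.span (X.presheaf.stalk x) (Set.range fun s : C.presheaf.stalk (f x) =>
        dSt πX x (f.stalkMap x s))) :
    ∃ t : C.presheaf.stalk (f x), ∀ a : X.presheaf.stalk x,
      CycB.StalkExact.stalkLin w x (dSt πX x a) = 0 →
        ∃ c : ℕ → X.presheaf.stalk x, a = ∑ i ∈ Finset.range p, c i ^ p * f.stalkMap x t ^ i := by
  obtain ⟨t, ht⟩ := exists_dSt_generator πX πC f hf hΩC x
  refine ⟨t, fun a ha => ?_⟩
  let _ := stAlg πX x
  let _ := stMod πX (Omega.sheaf πX) x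
  have _ := stTower πX (Omega.sheaf πX) x
  obtain ⟨b⟩ := Krr.H450.ConormalIso.exists_basis_stalk hΩ x
  obtain ⟨bE⟩ := Krr.H450.ConormalIso.exists_basis_stalk hE x
  obtain ⟨hd, hi⟩ := hX x
  let L : Ω[X.presheaf.stalk x⁄k] ≃ₗ[X.presheaf.stalk x] (Omega.sheaf πX).presheaf.stalk x :=
    LinearEquiv.ofBijective _ (bijective_stDer πX x)
  have hL : ∀ s : X.presheaf.stalk x, L (D k _ s) = dSt πX x s := fun s =>
    Derivation.liftKaehlerDifferential_comp_D _ _
  let W : Ω[X.presheaf.stalk x⁄k] →ₗ[X.presheaf.stalk x] E.presheaf.stalk x :=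
    (CycB.StalkExact.stalkLin w x) ∘ₗ L.toLinearMap
  have hWD : ∀ s : X.presheaf.stalk x, W (D k _ s) = CycB.StalkExact.stalkLin w x (dSt πX x s) := fun s =>
    congrArg (CycB.StalkExact.stalkLin w x) (hL s)
  let e : E.presheaf.stalk x ≃ₗ[X.presheaf.stalk x] X.presheaf.stalk x :=
    bE.equivFun.trans (LinearEquiv.funUnique (Fin 1) _ _)
  have hwW : ∀ ω, W ω = 0 → ∃ b : X.presheaf.stalk x, ω = b • D k (X.presheaf.stalk x) (f.stalkMap x t) := by
    intro ω hω
    have h1 := hker (L ω) hω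
    have h2 : Submodule.span (X.presheaf.stalk x) (Set.range fun s : C.presheaf.stalk (f x) =>
        dSt πX x (f.stalkMap x s)) ≤ Submodule.span (X.presheaf.stalk x) {dSt πX x (f.stalkMap x t)} := by
      rw [Submodule.span_le]
      rintro _ ⟨s, rfl⟩
      obtain ⟨c, hc⟩ := ht s
      exact Submodule.mem_span_singleton.2 ⟨_, hc.symm⟩
    obtain ⟨b, hb⟩ := Submodule.mem_span_singleton.1 (h2 h1)
    refine ⟨b, L.injective ?_⟩
    rw [map_smul, hL, hb]
  have htf : ∀ (r : X.presheaf.stalk x) (y : E.presheaf.stalk x), r • y = 0 → r = 0 ∨ y = 0 := by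
    intro r y hry
    have h1 : r * e y = 0 := by
      have := congrArg e hry
      rwa [map_smul, map_zero] at this
    rcases mul_eq_zero.1 h1 with h | h
    · exact Or.inl h
    · exact Or.inr (e.map_eq_zero_iff.1 h)
  exact K83.KerAlg.exists_sum htf W (f.stalkMap x t) hwW ((hWD _).trans (hw t))
    (K83.KerAlg.D_ne_zero W _ hwW e (b.map L.symm)) p a ((hWD a).trans ha)

end Stalk

section Spread

theorem exists_common_open {X : Scheme.{u}} (x : X) (c : ℕ → X.presheaf.stalk x) (n : ℕ) :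
    ∃ (W : X.Opens) (hx : x ∈ W) (c' : ℕ → Γ(X, W)), ∀ i < n, X.presheaf.germ W x hx (c' i) = c i := by
  induction n with
  | zero => exact ⟨⊤, trivial, 0, fun i hi => absurd hi (Nat.not_lt_zero i)⟩
  | succ n ih =>
    obtain ⟨W, hx, c', hc'⟩ := ih
    obtain ⟨V, hV, t, ht⟩ := TopCat.Presheaf.exists_germ_eq X.presheaf (c n)
    refine ⟨W ⊓ V, ⟨hx, hV⟩, fun i => if i < n then X.presheaf.map (homOfLE inf_le_left).op (c' i) else
      X.presheaf.map (homOfLE inf_le_right).op t, fun i hi => ?_⟩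
    by_cases h : i < n
    · simp only [h, if_true]
      rw [← hc' i h]
      exact QCohStalk.ring_germ_map _ _ _ _
    · obtain rfl : i = n := by omega
      simp only [h, if_false]
      rw [← ht]
      exact QCohStalk.ring_germ_map _ _ _ _

variable {X C : Scheme.{u}} (p : ℕ) [Fact p.Prime] [IsCharP X p] (f : X ⟶ C) [IsCharP C p]

theorem relFrob_app_fst (U : X.Opens) (a : Γ(X, U)) :
    (relFrob f p).app (pullback.fst f (frob C p) ⁻¹ᵁ U) ((pullback.fst f (frob C p)).app U a) =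
      X.presheaf.map (homOfLE (preimage_fst p f U).le).op a ^ p := by
  have h1 := congr($(Scheme.Hom.appLE_comp_appLE (relFrob f p) (pullback.fst f (frob C p)) U
    (pullback.fst f (frob C p) ⁻¹ᵁ U) (relFrob f p ⁻¹ᵁ (pullback.fst f (frob C p) ⁻¹ᵁ U)) le_rfl le_rfl) a)
  rw [Scheme.Hom.appLE_eq_app, Scheme.Hom.appLE_eq_app] at h1
  refine h1.trans ?_
  refine (congr($(appLE_congr_hom (relFrob_fst f p) _ (preimage_fst p f U).le) a)).trans ?_
  exact frob_appLE p X (preimage_fst p f U).le a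

omit [IsCharP X p] in
theorem relFrob_app_snd (V₀ : C.Opens) (V : (frobTwist f p).Opens) (h : V ≤ pullback.snd f (frob C p) ⁻¹ᵁ V₀)
    (h' : relFrob f p ⁻¹ᵁ V ≤ f ⁻¹ᵁ V₀) (t : Γ(C, V₀)) :
    (relFrob f p).app V ((pullback.snd f (frob C p)).appLE V₀ V h t) = f.appLE V₀ _ h' t := by
  have h1 := congr($(Scheme.Hom.appLE_comp_appLE (relFrob f p) (pullback.snd f (frob C p)) V₀
    V (relFrob f p ⁻¹ᵁ V) h le_rfl) t)
  rw [Scheme.Hom.appLE_eq_app] at h1
  refine h1.trans ?_
  exact congr($(appLE_congr_hom (relFrob_snd f p) _ _) t)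

omit [IsCharP X p] [IsCharP C p] [Fact p.Prime] in
theorem map_formula {W W' : X.Opens} (h : W' ≤ W) (V₀ : C.Opens) (hW : W ≤ f ⁻¹ᵁ V₀) (c : ℕ → Γ(X, W))
    (t : Γ(C, V₀)) :
    X.presheaf.map (homOfLE h).op (∑ i ∈ Finset.range p, c i ^ p * (f.appLE V₀ W hW t) ^ i) =
      ∑ i ∈ Finset.range p, X.presheaf.map (homOfLE h).op (c i) ^ p * (f.appLE V₀ W' (h.trans hW) t) ^ i := by
  rw [map_sum]
  refine Finset.sum_congr rfl fun i _ => ?_
  rw [map_mul, map_pow, map_pow]
  congr 2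
  exact congr($(Scheme.Hom.appLE_map f hW (homOfLE h).op) t)

/-- Spreading out a formula `a = ∑ c_i^p f^♯(t)^i` at a point to a section over the Frobenius twist. -/
theorem exists_section (y : frobTwist f p) (U : (frobTwist f p).Opens) (s : Γ(X, relFrob f p ⁻¹ᵁ U))
    (x : X) (hxy : pullback.fst f (frob C p) y = x) (hx : x ∈ relFrob f p ⁻¹ᵁ U)
    (t : C.presheaf.stalk (f x)) (c : ℕ → X.presheaf.stalk x)
    (h : X.presheaf.germ _ x hx s = ∑ i ∈ Finset.range p, c i ^ p * f.stalkMap x t ^ i) :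
    ∃ (V : (frobTwist f p).Opens) (hV : V ≤ U), y ∈ V ∧ ∃ r : Γ(frobTwist f p, V),
      (relFrob f p).app V r = X.presheaf.map (homOfLE ((relFrob f p).preimage_mono hV)).op s := by
  obtain ⟨V₀, hV₀, t₀, rfl⟩ := TopCat.Presheaf.exists_germ_eq C.presheaf t
  obtain ⟨W, hW, c', hc'⟩ := exists_common_open x c p
  have hx' : x ∈ W ⊓ f ⁻¹ᵁ V₀ := ⟨hW, hV₀⟩
  let s' : Γ(X, W ⊓ f ⁻¹ᵁ V₀) := ∑ i ∈ Finset.range p,
    X.presheaf.map (homOfLE inf_le_left).op (c' i) ^ p * (f.appLE V₀ _ inf_le_right t₀) ^ i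
  have hs' : X.presheaf.germ _ x hx' s' = X.presheaf.germ _ x hx s := by
    rw [h, map_sum]
    refine Finset.sum_congr rfl fun i hi => ?_
    rw [map_mul, map_pow, map_pow, QCohStalk.ring_germ_map, hc' i (Finset.mem_range.1 hi)]
    congr 2
    refine Eq.trans ?_ (Scheme.Hom.germ_stalkMap_apply f V₀ x hV₀ t₀).symm
    exact QCohStalk.ring_germ_map inf_le_right x hx' _
  obtain ⟨U₁, hxU₁, i₁, i₂, hU₁⟩ := X.presheaf.germ_eq x hx' hx s' s hs'
  have hle : pullback.fst f (frob C p) ⁻¹ᵁ U₁ ≤ U := by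
    rw [← preimage_preimage p f U]
    exact (pullback.fst f (frob C p)).preimage_mono i₂.le
  have hsnd : pullback.fst f (frob C p) ⁻¹ᵁ U₁ ≤ pullback.snd f (frob C p) ⁻¹ᵁ V₀ := by
    intro z hz
    change pullback.snd f (frob C p) z ∈ V₀
    rw [snd_apply]
    exact (i₁.le hz).2
  have hR : relFrob f p ⁻¹ᵁ (pullback.fst f (frob C p) ⁻¹ᵁ U₁) ≤ U₁ := (preimage_fst p f U₁).le
  have hRf : relFrob f p ⁻¹ᵁ (pullback.fst f (frob C p) ⁻¹ᵁ U₁) ≤ f ⁻¹ᵁ V₀ :=
    hR.trans (i₁.le.trans inf_le_right)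
  refine ⟨pullback.fst f (frob C p) ⁻¹ᵁ U₁, hle, by rw [← hxy] at hxU₁; exact hxU₁,
    ∑ i ∈ Finset.range p, (pullback.fst f (frob C p)).app U₁
      (X.presheaf.map (homOfLE (i₁.le.trans inf_le_left)).op (c' i)) *
      ((pullback.snd f (frob C p)).appLE V₀ _ hsnd t₀) ^ i, ?_⟩
  rw [map_sum]
  have h1 : X.presheaf.map (homOfLE ((relFrob f p).preimage_mono hle)).op s =
      X.presheaf.map (homOfLE (hR.trans i₁.le)).op s' := by
    have h2 := congrArg (X.presheaf.map (homOfLE hR).op) hU₁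
    rw [← X.presheaf.map_comp_apply, ← X.presheaf.map_comp_apply] at h2
    exact h2.symm
  rw [h1]
  refine Eq.trans ?_ (map_formula p f (hR.trans i₁.le) V₀ inf_le_right _ t₀).symm
  refine Finset.sum_congr rfl fun i _ => ?_
  rw [map_mul, map_pow, relFrob_app_snd p f V₀ _ hsnd hRf t₀, relFrob_app_fst]
  rw [← X.presheaf.map_comp_apply, ← X.presheaf.map_comp_apply]
  rfl

end Spread

section Exact

variable {k : Type u} [Field k] {X C : Scheme.{u}} (πX : X ⟶ Spec (CommRingCat.of k))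
  [QuasiCompact (pullback.diagonal πX)] {E : X.Modules} (w : Omega.sheaf πX ⟶ E)
  (πC : C ⟶ Spec (CommRingCat.of k)) [QuasiCompact (pullback.diagonal πC)]
  (p : ℕ) [Fact p.Prime] [IsCharP X p] (f : X ⟶ C) [IsCharP C p]

theorem stalkLin_dSt_germ (x : X) (W : X.Opens) (hx : x ∈ W) (s : Γ(X, W)) :
    CycB.StalkExact.stalkLin w x (dSt πX x (X.presheaf.germ W x hx s)) =
      E.presheaf.germ W x hx (δ πX w W s) := by
  rw [dSt_germ, CycB.StalkExact.stalkLin_germ]
  rfl

/-- the differentials of functions from `C` are killed at stalks -/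
theorem stalk_zero (hw : ∀ (V : C.Opens) (s : Γ(C, V)), δ πX w (f ⁻¹ᵁ V) (f.app V s) = 0) (x : X)
    (s : C.presheaf.stalk (f x)) : CycB.StalkExact.stalkLin w x (dSt πX x (f.stalkMap x s)) = 0 := by
  obtain ⟨V, hV, s, rfl⟩ := TopCat.Presheaf.exists_germ_eq C.presheaf s
  rw [Scheme.Hom.germ_stalkMap_apply]
  refine (stalkLin_dSt_germ πX w x (f ⁻¹ᵁ V) hV (f.app V s)).trans ?_
  rw [hw V s, map_zero]

/-- **CLAIM 2.** The sequence `O_{X^(p)} ⟶ R_* O_X ⟶ R_* E` is exact in the middle. -/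
theorem exact_seq [CharP k p] [PerfectRing k p] (hf : f ≫ πC = πX)
    (hX : Pi1.IsNormalScheme X) (hΩC : FlatMod.IsFinLocFreeOfRank 1 (Omega.sheaf πC))
    (hΩ : FlatMod.IsFinLocFreeOfRank 2 (Omega.sheaf πX)) (hE : FlatMod.IsFinLocFreeOfRank 1 E)
    (hw : ∀ (V : C.Opens) (s : Γ(C, V)), δ πX w (f ⁻¹ᵁ V) (f.app V s) = 0)
    (hker : ∀ (x : X) (ω : (Omega.sheaf πX).presheaf.stalk x), CycB.StalkExact.stalkLin w x ω = 0 →
      ω ∈ Submodule.span (X.presheaf.stalk x) (Set.range fun s : C.presheaf.stalk (f x) =>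
        dSt πX x (f.stalkMap x s))) :
    (ShortComplex.mk (FormalA.ThickSurj.qmap (relFrob f p)) (relD πX w p f hw)
      (qmap_relD πX w p f hw)).Exact := by
  apply Sga67.Sec.exact_of_locally
  intro U s hs y hy
  have hx : pullback.fst f (frob C p) y ∈ relFrob f p ⁻¹ᵁ U := by
    change relFrob f p (pullback.fst f (frob C p) y) ∈ U
    rw [relFrob_fst_apply]
    exact hy
  obtain ⟨t, ht⟩ := exists_sum_stalk πX w πC f p hf hX hΩC hΩ hE (pullback.fst f (frob C p) y)
    (stalk_zero πX w f hw _) (hker _)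
  obtain ⟨c, hc⟩ := ht (X.presheaf.germ (relFrob f p ⁻¹ᵁ U) _ hx s)
    ((stalkLin_dSt_germ πX w _ (relFrob f p ⁻¹ᵁ U) hx s).trans
      ((congrArg _ (show δ πX w (relFrob f p ⁻¹ᵁ U) s = 0 from hs)).trans (map_zero _)))
  obtain ⟨V, hV, hyV, r, hr⟩ := exists_section p f y U s _ rfl hx t c hc
  exact ⟨V, hV, hyV, r, hr⟩

end Exact

end K83.KerExact
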