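import Groth.Agent.Surf.K83.KerFrob
import Groth.Agent.S0033
import Groth.Agent.S14930
import Groth.Agent.Coherent.K44.DegLeray
import Groth.Agent.AbSch.K453.DerZero
import Groth.Agent.PerfC.FlasquePush
import Groth.Agent.PerfC.RpushAffine
import Groth.Agent.Sga4h.LerayAcyc
import Groth.Agent.Ega2.QCohLocal
import Groth.Agent.Ega3B.PullTensor
import Groth.Prelude.Def_ClSub2

/-!
# The kernel of Frobenius on `R¹ f_* O_X`

`f : X ⟶ C` with `O_C = f_* O_X`, `R : X ⟶ X₁` affine, `R ≫ f₁ = f`, `O_{X₁} ⟶ R_* O_X ⟶ R_* E` exact with the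
first map mono. Then the kernel `Q` of `R¹ f₁_* O_{X₁} ⟶ R¹ f_* O_X` embeds into `f_* E`.
-/

set_option autoImplicit false
universe u
open CategoryTheory CategoryTheory.Limits AlgebraicGeometry Opposite TopologicalSpace

namespace K83.KerPush

open Groth.Agent Groth.Agent.Etcore FrobSch FormalA.ThickSurj

section Comp

variable {X X₁ C : Scheme.{u}} (R : X ⟶ X₁) (f₁ : X₁ ⟶ C) (f : X ⟶ C) (e : R ≫ f₁ = f)

/-- `(f₁)_* R_* ≅ f_*` -/
noncomputable def pushIso : Scheme.Modules.pushforward R ⋙ Scheme.Modules.pushforward f₁ ≅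
    Scheme.Modules.pushforward f :=
  Scheme.Modules.pushforwardComp R f₁ ≪≫ Scheme.Modules.pushforwardCongr e

include e in
/-- the direct image of `O_{X₁} ⟶ R_* O_X` is onto on sections if `O_C ⟶ f_* O_X` is -/
theorem epi_push_qmap (hconn : IsIso (ClSub.unitToPush f)) :
    Epi ((Scheme.Modules.pushforward f₁).map (qmap R)) := by
  subst e
  refine PerfB.ModExact.epi_of_locally_surjective _ ?_
  intro U y x hx
  refine ⟨U, le_refl _, hx, ?_⟩
  obtain ⟨c, hc⟩ := (ConcreteCategory.bijective_of_isIso ((ClSub.unitToPush (R ≫ f₁)).app U)).2 y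
  refine ⟨f₁.app U c, ?_⟩
  refine Eq.trans ?_ (hc.trans congr($((((Scheme.Modules.pushforward f₁).obj
    ((Scheme.Modules.pushforward R).obj (Coh.structureModule X))).presheaf.map_id (op U)).symm) y))
  exact congr($((Scheme.Hom.comp_app R f₁ U).symm) c)

theorem acyc_push_of_injective (I : X.Modules) (hI : Injective I) :
    DerLES.Acyc (Scheme.Modules.pushforward f₁) ((Scheme.Modules.pushforward R).obj I) := by
  intro q
  have h1 : TopCat.Sheaf.IsFlasque (X := X.toTopCat) (Coh.toAb I) :=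
    Ega3B.InjMod.isFlasque_of_injective I
  exact PerfC.FlasquePush.isZero_Rpush f₁ _ (show PerfC.FlasquePush.IsFlasqueMod
    ((Scheme.Modules.pushforward R).obj I) from TopCat.Sheaf.IsFlasque.pushforward_isFlasque
      (C := AddCommGrpCat.{u}) (X := X.toTopCat) (Y := X₁.toTopCat) (Coh.toAb I) R.base) (q + 1) q.succ_pos

include e in
/-- `R¹ (f₁)_* (R_* O_X) ≅ R¹ f_* O_X` for `R` affine -/
theorem nonempty_rpush_iso [IsAffineHom R] (n : ℕ) (M : X.Modules) (hM : Coh.IsQCoh M) :
    Nonempty (((Scheme.Modules.pushforward f₁).rightDerived n).obj ((Scheme.Modules.pushforward R).obj M) ≅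
      ((Scheme.Modules.pushforward f).rightDerived n).obj M) := by
  obtain ⟨a⟩ := K44.DegLeray.comp_of_acyc (Scheme.Modules.pushforward R) (Scheme.Modules.pushforward f₁)
    (acyc_push_of_injective R f₁) n M
    (fun q => PerfC.RpushAffine.isZero_Rpush R M hM (q + 1) q.succ_pos)
  exact ⟨a ≪≫ (Groth.Agent.Sga4h.LerayAcyc.rightDerivedCongr (pushIso R f₁ f e) n).app M⟩

end Comp

section Main

variable {X X₁ C : Scheme.{u}} (R : X ⟶ X₁) (f₁ : X₁ ⟶ C) (f : X ⟶ C) (e : R ≫ f₁ = f)

include e in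
/-- The kernel of `R¹ (f₁)_* O_{X₁} ⟶ R¹ f_* O_X`. -/
theorem exists_kernel [IsAffineHom R] (hconn : IsIso (ClSub.unitToPush f)) [Mono (qmap R)] {E : X.Modules}
    (D : (Scheme.Modules.pushforward R).obj (Coh.structureModule X) ⟶ (Scheme.Modules.pushforward R).obj E)
    (w : qmap R ≫ D = 0) (hex : (ShortComplex.mk _ _ w).Exact) {R₁ R₂ : C.Modules}
    (e₁ : R₁ ≅ ((Scheme.Modules.pushforward f₁).rightDerived 1).obj (Coh.structureModule X₁))
    (e₂ : ((Scheme.Modules.pushforward f₁).rightDerived 1).obj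
      ((Scheme.Modules.pushforward R).obj (Coh.structureModule X)) ≅ R₂) :
    ∃ (Q : C.Modules) (m : Q ⟶ R₁) (r : R₁ ⟶ R₂) (n : Q ⟶ (Scheme.Modules.pushforward f).obj E) (h : m ≫ r = 0),
      Mono m ∧ Mono n ∧ (ShortComplex.mk m r h).Exact := by
  let T : ShortComplex X₁.Modules := ShortComplex.mk (qmap R) (cokernel.π (qmap R)) (cokernel.condition _)
  have hT : T.ShortExact :=
    { exact := ShortComplex.exact_cokernel _
      mono_f := inferInstanceAs (Mono (qmap R))
      epi_g := inferInstanceAs (Epi (cokernel.π (qmap R))) }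
  obtain ⟨δ, w₁, w₂, -, ex₁, ex₂, -⟩ := K453.DerZero.exists_les₀ (Scheme.Modules.pushforward f₁) hT
  have hepi : Epi ((Scheme.Modules.pushforward f₁).map T.f) := epi_push_qmap R f₁ f e hconn
  have hg0 : (Scheme.Modules.pushforward f₁).map T.g = 0 := by
    rw [← cancel_epi ((Scheme.Modules.pushforward f₁).map T.f), ← Functor.map_comp, T.zero, Functor.map_zero,
      comp_zero]
  have hmδ : Mono δ := ex₁.mono_g hg0
  have hmD : Mono (cokernel.desc (qmap R) D w) := hex.mono_cokernelDesc
  refine ⟨(Scheme.Modules.pushforward f₁).obj T.X₃, δ ≫ e₁.inv,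
    e₁.hom ≫ ((Scheme.Modules.pushforward f₁).rightDerived 1).map T.f ≫ e₂.hom,
    (Scheme.Modules.pushforward f₁).map (cokernel.desc (qmap R) D w) ≫ (pushIso R f₁ f e).hom.app E, ?_, ?_, ?_, ?_⟩
  · rw [Category.assoc, Iso.inv_hom_id_assoc, reassoc_of% w₂, zero_comp]
  · exact mono_comp _ _
  · have : Mono ((Scheme.Modules.pushforward f₁).map (cokernel.desc (qmap R) D w)) := inferInstance
    exact mono_comp _ _
  · refine (ShortComplex.exact_iff_of_iso ?_).1 ex₂
    refine ShortComplex.isoMk (Iso.refl _) e₁.symm e₂ ?_ ?_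
    · simp
    · simp

end Main

section Frob

variable (p : ℕ) [Fact p.Prime] {X C : Scheme.{u}} (f : X ⟶ C) [IsCharP C p] [IsCharP X p]

omit [IsCharP X p] in
/-- **CLAIM 3**: the kernel of `F_C^* R¹ f_* O_X ⟶ R¹ f_* O_X` embeds into `f_* E`. -/
theorem main [QuasiCompact f] [QuasiSeparated f] [Flat (frob C p)] [HasInjectiveResolutions X.Modules]
    (hconn : IsIso (ClSub.unitToPush f)) (hmono : Mono (qmap (relFrob f p))) {E : X.Modules}
    (D : (Scheme.Modules.pushforward (relFrob f p)).obj (Coh.structureModule X) ⟶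
      (Scheme.Modules.pushforward (relFrob f p)).obj E)
    (w : qmap (relFrob f p) ≫ D = 0) (hex : (ShortComplex.mk _ _ w).Exact) :
    ∃ (Q : C.Modules) (m : Q ⟶ (Scheme.Modules.pullback (frob C p)).obj ((Coh.Rpush f 1).obj (Coh.structureModule X)))
      (r : (Scheme.Modules.pullback (frob C p)).obj ((Coh.Rpush f 1).obj (Coh.structureModule X)) ⟶
        (Coh.Rpush f 1).obj (Coh.structureModule X))
      (n : Q ⟶ (Scheme.Modules.pushforward f).obj E) (h : m ≫ r = 0),
      Mono m ∧ Mono n ∧ (ShortComplex.mk m r h).Exact := by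
  have : HasInjectiveResolutions (frobTwist f p).Modules := inferInstance
  have hR : IsIntegralHom (relFrob f p) := (S14930.result p f).2.1
  have hq : Coh.IsQCoh (Coh.structureModule X) := Groth.Agent.Ega2.QCohLocal.isQCoh_structureModule X
  obtain ⟨u⟩ := Groth.Agent.Ega3B.PullTensor.nonempty_pullUnitIso (pullback.fst f (frob C p))
  obtain ⟨a⟩ := S0033.result f (frob C p) (pullback.fst f (frob C p)) (pullback.snd f (frob C p))
    (IsPullback.of_hasPullback f (frob C p)) (Coh.structureModule X) 1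
  obtain ⟨b⟩ := nonempty_rpush_iso (relFrob f p) (pullback.snd f (frob C p)) f (relFrob_snd f p) 1
    (Coh.structureModule X) hq
  exact exists_kernel (relFrob f p) (pullback.snd f (frob C p)) f (relFrob_snd f p) hconn D w hex
    (a ≪≫ (Coh.Rpush (pullback.snd f (frob C p)) 1).mapIso u) b

end Frob

end K83.KerPush
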