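import Groth.Agent.Surf.K83.WedgeSurj
import Groth.Agent.Surf.K993.SingFin
import Groth.Agent.Vancyc.H878.OmegaRank
import Groth.Agent.Fga.DimCut
import Groth.Agent.S1535
import Groth.Agent.S2821

/-!
# Existence of the wedge with `df`, for a nodal family of curves on a smooth surface
-/

set_option autoImplicit false
universe u
open CategoryTheory CategoryTheory.Limits AlgebraicGeometry Opposite TopologicalSpace
open scoped TensorProduct

namespace K83.WedgeEx

open Groth.Agent Groth.Agent.Fdesc Groth.Agent.Ega2.Tens CurvesB.OmegaDer CurvesB.OmegaStalkDict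

/-- the canonical map `f^* Ω_C ⟶ Ω_X` -/
theorem exists_diff {k : Type u} [Field k] {X C : Scheme.{u}} (πX : X ⟶ Spec (CommRingCat.of k))
    [QuasiCompact (pullback.diagonal πX)] (πC : C ⟶ Spec (CommRingCat.of k))
    [QuasiCompact (pullback.diagonal πC)] (f : X ⟶ C) (hf : f ≫ πC = πX) :
    ∃ c : (Scheme.Modules.pullback f).obj (Omega.sheaf πC) ⟶ Omega.sheaf πX,
      ∀ (U : C.Opens) (s : Γ(C, U)), c.app (f ⁻¹ᵁ U) (LocGen.pullSec f (d πC U s)) =
        d πX (f ⁻¹ᵁ U) (f.app U s) := by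
  have h1 : QuasiSeparated πX := ⟨inferInstance⟩
  have h2 : QuasiSeparated πC := ⟨inferInstance⟩
  obtain ⟨c, hc, -⟩ := Groth.Agent.S9370.result πC πX f (𝟙 _) (by rw [Category.comp_id, hf]) _
    (OmegaSh.dOmega πC) (Groth.Agent.S5005.result πC) _ (OmegaSh.dOmega πX) (Groth.Agent.S5005.result πX)
  refine ⟨c, fun U s => ?_⟩
  have h := hc U s
  rw [K853.OmegaBridge.dOmega_app_eq, K853.OmegaBridge.dOmega_app_eq] at h
  exact h

variable (k : Type u) [Field k] {X C : Scheme.{u}}
  [X.Over (Spec (CommRingCat.of k))] [C.Over (Spec (CommRingCat.of k))] [IsProper (X ↘ Spec (CommRingCat.of k))]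
  [IsProper (C ↘ Spec (CommRingCat.of k))] [IsIntegral X] [IsIntegral C] [Smooth (X ↘ Spec (CommRingCat.of k))]
  [Smooth (C ↘ Spec (CommRingCat.of k))]
  (hdim : topologicalKrullDim X = 2) (hdimC : topologicalKrullDim C = 1) (f : X ⟶ C)
  (hf : f ≫ (C ↘ Spec (CommRingCat.of k)) = X ↘ Spec (CommRingCat.of k)) (hss : Curv2.IsNodalFamily f)
  (q₀ : C) (hsm : Smooth (f.fiberToSpecResidueField q₀))
  {WX M : X.Modules} (hWX : ExtPow.IsExtPow 2 (Omega.sheaf (X ↘ Spec (CommRingCat.of k))) WX)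
  (hM : ClSub.IsInverseOf M ((Scheme.Modules.pullback f).obj (Omega.sheaf (C ↘ Spec (CommRingCat.of k)))))
  (hMi : PicF.IsInvertible M)

include hdim hdimC hf hss hsm hWX hM hMi in
/-- The map `w : Ω_X ⟶ ω_X ⊗ M`, `M` inverse to `f^*Ω_C`: wedge with `df`. It kills the differentials of the functions
from `C`, its kernel is generated by them, and it is surjective at the points where `f` is smooth. -/
theorem exists_wm : ∃ w : Omega.sheaf (X ↘ (Spec (CommRingCat.of k))) ⟶ CohB1.tensorMod WX M,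
    (∀ (V : C.Opens) (s : Γ(C, V)),
      K83.KerFrob.δ (X ↘ (Spec (CommRingCat.of k))) w (f ⁻¹ᵁ V) (f.app V s) = 0) ∧
    (∀ (x : X) (ω : (Omega.sheaf (X ↘ (Spec (CommRingCat.of k)))).presheaf.stalk x),
      CycB.StalkExact.stalkLin w x ω = 0 →
      ω ∈ Submodule.span (X.presheaf.stalk x) (Set.range fun s : C.presheaf.stalk (f x) =>
        CurvesB.OmegaStalkDict.dSt (X ↘ (Spec (CommRingCat.of k))) x (f.stalkMap x s))) ∧
    (∀ x : X, CurvesB.NodalPoint.Sm f x → Function.Surjective (CycB.StalkExact.stalkLin w x)) := by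
  have hp : IsProper f := by
    have : IsProper (f ≫ (C ↘ Spec (CommRingCat.of k))) := by rw [hf]; infer_instance
    exact MorphismProperty.of_postcomp (W := @IsProper) (W' := @IsSeparated) f (C ↘ Spec (CommRingCat.of k))
      inferInstance this
  have hflf := hss.1
  have hfp : LocallyOfFinitePresentation f := hss.2.1
  have hsm2 : SmoothOfRelativeDimension 2 (X ↘ Spec (CommRingCat.of k)) :=
    Picfga.CurveRelDim.smoothOfRelativeDimension_of_topologicalKrullDim_eq k X _ 2 hdim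
  have hsm1 : SmoothOfRelativeDimension 1 (C ↘ Spec (CommRingCat.of k)) :=
    Picfga.CurveRelDim.smoothOfRelativeDimension_of_topologicalKrullDim_eq k C _ 1 hdimC
  have hΩC := Vancyc.H878.OmegaRank.isFinLocFreeOfRank_omega 1 (C ↘ Spec (CommRingCat.of k))
  have hΩ := Vancyc.H878.OmegaRank.isFinLocFreeOfRank_omega 2 (X ↘ Spec (CommRingCat.of k))
  obtain ⟨c, hc⟩ := exists_diff (X ↘ Spec (CommRingCat.of k)) (C ↘ Spec (CommRingCat.of k)) f hf
  obtain ⟨β, hβ⟩ := K698.Wedge.exists_wedge hWX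
  obtain ⟨a⟩ := hM
  refine ⟨K83.WedgeDf.wm c β a, fun V s => K83.WedgeDf.δ_wm _ _ f c hc β hβ a hΩC V s, fun x ω hω => ?_,
    fun x hx => K83.WedgeSurj.surjective_stalkLin_wm _ _ f c hc β hβ a hMi hf hΩC hΩ x
      (CurvesB.NodalPoint.mem_smoothLocus_of_sm f x hx)⟩
  have hreg := S1535.result k X x
  obtain ⟨hdom, hufd⟩ := S2821.result (X.presheaf.stalk x)
  refine K83.WedgeKer.mem_span_of_wm _ _ f c hc β hβ a hf hΩC hΩ x (fun y _ hy => ?_) ω hω
  by_contra h
  have hcl := K993.SingFin.isClosed_singleton f hss hdimC.le hsm h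
  rw [Groth.Agent.Fga.DimCut.ringKrullDim_stalk_eq k X y hcl, hdim] at hy
  exact absurd hy (by decide)

end K83.WedgeEx
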