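import Groth.Agent.KodV.K850.FrobSeq
import Mathlib.AlgebraicGeometry.Morphisms.Flat

/-!
# The differential of functions on the Frobenius twist

`f : X ⟶ C` in characteristic `p`, `R : X ⟶ X^(p)` the relative Frobenius, `w : Ω_X ⟶ E` killing the
differentials of functions from `C`. Then `a ↦ w (da)` is an `O_{X^(p)}`-linear map `R_* O_X ⟶ R_* E`
(`relD`) which vanishes on `O_{X^(p)}`.
-/

set_option autoImplicit false
universe u
open CategoryTheory CategoryTheory.Limits AlgebraicGeometry Opposite TopologicalSpace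

namespace K83.KerFrob

open Groth.Agent Groth.Agent.Ega2.Tens CurvesB.OmegaDer CurvesB.OmegaStalkDict FrobSch

section Pushout

/-- A pushout of commutative rings is generated by the images. -/
theorem mem_closure_of_isPushout {A B C P : CommRingCat.{u}} {f : A ⟶ B} {g : A ⟶ C} {i : B ⟶ P} {j : C ⟶ P}
    (h : IsPushout f g i j) (x : P) : x ∈ Subring.closure (Set.range i.hom ∪ Set.range j.hom) := by
  let S := Subring.closure (Set.range i.hom ∪ Set.range j.hom)
  let ι : CommRingCat.of S ⟶ P := CommRingCat.ofHom S.subtype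
  let i' : B ⟶ CommRingCat.of S := CommRingCat.ofHom (i.hom.codRestrict S fun b =>
    Subring.subset_closure (Or.inl ⟨b, rfl⟩))
  let j' : C ⟶ CommRingCat.of S := CommRingCat.ofHom (j.hom.codRestrict S fun b =>
    Subring.subset_closure (Or.inr ⟨b, rfl⟩))
  have hi : i' ≫ ι = i := rfl
  have hj : j' ≫ ι = j := rfl
  have : Mono ι := ConcreteCategory.mono_of_injective _ Subtype.val_injective
  have hw : f ≫ i' = g ≫ j' := by
    rw [← cancel_mono ι, Category.assoc, Category.assoc, hi, hj, h.w]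
  have key : h.desc i' j' hw ≫ ι = 𝟙 P := by
    apply h.hom_ext
    · rw [IsPushout.inl_desc_assoc, hi, Category.comp_id]
    · rw [IsPushout.inr_desc_assoc, hj, Category.comp_id]
  have h2 : x = ι (h.desc i' j' hw x) := by
    rw [← ConcreteCategory.comp_apply, key]; rfl
  rw [h2]
  exact (h.desc i' j' hw x).2

end Pushout

theorem appLE_congr_hom {P Y : Scheme.{u}} {q q' : P ⟶ Y} (h : q = q') {U : Y.Opens} {V : P.Opens}
    (e : V ≤ q ⁻¹ᵁ U) (e' : V ≤ q' ⁻¹ᵁ U) : q.appLE U V e = q'.appLE U V e' := by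
  subst h; rfl

theorem frob_appLE (p : ℕ) [Fact p.Prime] (X : Scheme.{u}) [IsCharP X p] {U V : X.Opens}
    (e : V ≤ frob X p ⁻¹ᵁ U) (a : Γ(X, U)) :
    (frob X p).appLE U V e a = X.presheaf.map (homOfLE (show V ≤ U from e)).op a ^ p := by
  rw [← map_pow]
  rfl

section Twist

variable (p : ℕ) [Fact p.Prime] {X C : Scheme.{u}} (f : X ⟶ C) [IsCharP C p] [IsCharP X p]

/-- `q ≫ R` is the absolute Frobenius of the twist. -/
theorem fst_relFrob : pullback.fst f (frob C p) ≫ relFrob f p = frob (frobTwist f p) p := by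
  apply pullback.hom_ext
  · rw [Category.assoc, relFrob_fst]
    exact (frob_comp p _).symm
  · rw [Category.assoc, relFrob_snd, pullback.condition]
    exact (frob_comp p _).symm

theorem relFrob_fst_apply (y : frobTwist f p) :
    relFrob f p (pullback.fst f (frob C p) y) = y := by
  rw [← Scheme.Hom.comp_apply, fst_relFrob]
  rfl

theorem fst_relFrob_apply (x : X) : pullback.fst f (frob C p) (relFrob f p x) = x := by
  rw [← Scheme.Hom.comp_apply, relFrob_fst]
  rfl

omit [IsCharP X p] in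
theorem snd_apply (y : frobTwist f p) :
    pullback.snd f (frob C p) y = f (pullback.fst f (frob C p) y) := by
  rw [← Scheme.Hom.comp_apply, pullback.condition, Scheme.Hom.comp_apply]
  rfl

/-- opens of the twist are preimages of opens of `X` -/
theorem preimage_preimage (U : (frobTwist f p).Opens) :
    pullback.fst f (frob C p) ⁻¹ᵁ (relFrob f p ⁻¹ᵁ U) = U := by
  ext y
  change relFrob f p (pullback.fst f (frob C p) y) ∈ U ↔ y ∈ U
  rw [relFrob_fst_apply]

theorem preimage_fst (V : X.Opens) : relFrob f p ⁻¹ᵁ (pullback.fst f (frob C p) ⁻¹ᵁ V) = V := by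
  ext x
  change pullback.fst f (frob C p) (relFrob f p x) ∈ V ↔ x ∈ V
  rw [fst_relFrob_apply]

end Twist

section Der

variable {k : Type u} [Field k] {X C : Scheme.{u}} (πX : X ⟶ Spec (CommRingCat.of k))
  [QuasiCompact (pullback.diagonal πX)] {E : X.Modules} (w : Omega.sheaf πX ⟶ E)

/-- The derivation `a ↦ w (da)`. -/
noncomputable def δ (U : X.Opens) : Γ(X, U) →+ Γ(E, U) := (w.app U).hom.comp (d πX U)

theorem δ_apply (U : X.Opens) (s : Γ(X, U)) : δ πX w U s = w.app U (d πX U s) := rfl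

theorem δ_mul (U : X.Opens) (s t : Γ(X, U)) :
    δ πX w U (s * t) = s • δ πX w U t + t • δ πX w U s := by
  rw [δ_apply, d_mul, map_add, Scheme.Modules.Hom.app_smul, Scheme.Modules.Hom.app_smul]
  rfl

theorem δ_res {U V : X.Opens} (h : V ≤ U) (s : Γ(X, U)) :
    E.presheaf.map (homOfLE h).op (δ πX w U s) = δ πX w V (X.presheaf.map (homOfLE h).op s) := by
  rw [δ_apply, δ_apply, ← d_res]
  exact (congr($(w.mapPresheaf.naturality (homOfLE h).op) (d πX U s))).symm

theorem δ_one (U : X.Opens) : δ πX w U 1 = 0 := by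
  have h := δ_mul πX w U 1 1
  rw [mul_one, one_smul, left_eq_add] at h
  exact h

variable (p : ℕ) [Fact p.Prime] [IsCharP X p]

theorem δ_pow_p (U : X.Opens) (s : Γ(X, U)) : δ πX w U (s ^ p) = 0 := by
  rw [δ_apply, K850.FrobSeq.d_pow_p, map_zero]

variable (f : X ⟶ C) [IsCharP C p]
  (hw : ∀ (V : C.Opens) (s : Γ(C, V)), δ πX w (f ⁻¹ᵁ V) (f.app V s) = 0)

include hw in
theorem δ_appLE (V : C.Opens) (U : X.Opens) (h : U ≤ f ⁻¹ᵁ V) (s : Γ(C, V)) :
    δ πX w U (f.appLE V U h s) = 0 := by
  have h1 : f.appLE V U h s = X.presheaf.map (homOfLE h).op (f.app V s) := rfl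
  rw [h1, ← δ_res, hw, map_zero]

include hw in
/-- `w d` vanishes on the functions coming from the Frobenius twist. -/
theorem δ_relFrob (U : (frobTwist f p).Opens) (r : Γ(frobTwist f p, U)) :
    δ πX w (relFrob f p ⁻¹ᵁ U) ((relFrob f p).app U r) = 0 := by
  apply VarietyB.TensLoc.eq_of_locally
  intro x hx
  obtain ⟨V, hV, hxV, -⟩ := exists_isAffineOpen_mem_and_subset (x := f x) (U := ⊤) trivial
  obtain ⟨U₀, hU₀, hx₀, hle⟩ := exists_isAffineOpen_mem_and_subset (x := x)
    (U := f ⁻¹ᵁ V ⊓ relFrob f p ⁻¹ᵁ U) ⟨hxV, hx⟩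
  have hle1 : U₀ ≤ f ⁻¹ᵁ V := fun y hy => (hle hy).1
  have hle2 : U₀ ≤ relFrob f p ⁻¹ᵁ U := fun y hy => (hle hy).2
  refine ⟨U₀, hle2, hx₀, ?_⟩
  have hqU : pullback.fst f (frob C p) ⁻¹ᵁ U₀ ≤ U := by
    rw [← preimage_preimage p f U]
    exact fun y hy => hle2 hy
  have hsnd : pullback.fst f (frob C p) ⁻¹ᵁ U₀ ≤ pullback.snd f (frob C p) ⁻¹ᵁ V := by
    intro y hy
    change pullback.snd f (frob C p) y ∈ V
    rw [snd_apply]
    exact hle1 hy
  have hR : U₀ ≤ relFrob f p ⁻¹ᵁ (pullback.fst f (frob C p) ⁻¹ᵁ U₀) := (preimage_fst p f U₀).ge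
  have key : ∀ r' : Γ(frobTwist f p, pullback.fst f (frob C p) ⁻¹ᵁ U₀),
      δ πX w U₀ ((relFrob f p).appLE _ U₀ hR r') = 0 := by
    intro r'
    have hpo := (isIso_pushoutSection_iff (IsPullback.of_hasPullback f (frob C p)) (US := V) (UT := V)
      (UX := U₀) (UY := pullback.fst f (frob C p) ⁻¹ᵁ U₀) le_rfl hle1 (left_eq_inf.2 hsnd)).1
      (isIso_pushoutSection_of_isAffineOpen _ _ _ _ hV hV hU₀)
    have hmem := mem_closure_of_isPushout hpo r'
    induction hmem using Subring.closure_induction with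
    | mem y hy =>
      rcases hy with ⟨a, rfl⟩ | ⟨a, rfl⟩
      · have h1 : (relFrob f p).appLE _ U₀ hR ((pullback.fst f (frob C p)).appLE U₀ _ le_rfl a) =
            a ^ p := by
          rw [← ConcreteCategory.comp_apply, Scheme.Hom.appLE_comp_appLE]
          refine (congr($(appLE_congr_hom (relFrob_fst f p) _
            (show U₀ ≤ frob X p ⁻¹ᵁ U₀ from le_refl U₀)) a)).trans ?_
          refine (frob_appLE p X _ a).trans ?_
          exact congrArg (· ^ p) (congr($(X.presheaf.map_id (op U₀)) a))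
        exact (congrArg (δ πX w U₀) h1).trans (δ_pow_p πX w p U₀ a)
      · have h1 : (relFrob f p).appLE _ U₀ hR ((pullback.snd f (frob C p)).appLE V _ hsnd a) =
            f.appLE V U₀ hle1 a := by
          rw [← ConcreteCategory.comp_apply, Scheme.Hom.appLE_comp_appLE]
          exact congr($(appLE_congr_hom (relFrob_snd f p) _ _) a)
        exact (congrArg (δ πX w U₀) h1).trans (δ_appLE πX w f hw V U₀ hle1 a)
    | zero => rw [map_zero, map_zero]
    | one => rw [map_one, δ_one]
    | add y z _ _ hy hz => rw [map_add, map_add, hy, hz, add_zero]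
    | neg y _ hy => rw [map_neg, map_neg, hy, neg_zero]
    | mul y z _ _ hy hz => rw [map_mul, δ_mul, hy, hz, smul_zero, smul_zero, add_zero]
  have h2 := key ((frobTwist f p).presheaf.map (homOfLE hqU).op r)
  refine Eq.trans ?_ (map_zero (E.presheaf.map (homOfLE hle2).op).hom).symm
  refine (δ_res πX w hle2 _).trans ?_
  refine Eq.trans (congrArg (δ πX w U₀) ?_) h2
  exact (congr($(Scheme.Hom.map_appLE (relFrob f p) hR (homOfLE hqU).op) r)).symm

/-- The `O_{X^(p)}`-linear map `R_* O_X ⟶ R_* E`, `a ↦ w (da)`. -/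
noncomputable def relD :
    (Scheme.Modules.pushforward (relFrob f p)).obj (Coh.structureModule X) ⟶
      (Scheme.Modules.pushforward (relFrob f p)).obj E :=
  mkHom (M := (Scheme.Modules.pushforward (relFrob f p)).obj (Coh.structureModule X))
    (N := (Scheme.Modules.pushforward (relFrob f p)).obj E)
    (fun U =>
      { toFun := fun s => (show Γ((Scheme.Modules.pushforward (relFrob f p)).obj E, U) from
            δ πX w (relFrob f p ⁻¹ᵁ U) (show Γ(X, relFrob f p ⁻¹ᵁ U) from s))
        map_add' := fun a b => map_add (δ πX w (relFrob f p ⁻¹ᵁ U)) _ _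
        map_smul' := fun a b => by
          change δ πX w (relFrob f p ⁻¹ᵁ U) ((relFrob f p).app U a *
            (show Γ(X, relFrob f p ⁻¹ᵁ U) from b)) = (relFrob f p).app U a •
            δ πX w (relFrob f p ⁻¹ᵁ U) (show Γ(X, relFrob f p ⁻¹ᵁ U) from b)
          rw [δ_mul, δ_relFrob πX w p f hw, smul_zero, add_zero] })
    (fun U V i s => δ_res πX w ((relFrob f p).preimage_mono i.le) _)

theorem relD_app (U : (frobTwist f p).Opens) (s : Γ(X, relFrob f p ⁻¹ᵁ U)) :
    (relD πX w p f hw).app U (show Γ((Scheme.Modules.pushforward (relFrob f p)).obj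
      (Coh.structureModule X), U) from sm s) =
      (show Γ((Scheme.Modules.pushforward (relFrob f p)).obj E, U) from
        δ πX w (relFrob f p ⁻¹ᵁ U) s) := rfl

theorem qmap_relD : FormalA.ThickSurj.qmap (relFrob f p) ≫ relD πX w p f hw = 0 := by
  refine Scheme.Modules.hom_ext _ _ fun U => ?_
  ext s
  exact δ_relFrob πX w p f hw U s

end Der

end K83.KerFrob
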