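import Groth.Agent.Surf.K83.KerExact
import Groth.Agent.OmegaSh.K584.GenMono
import Groth.Agent.VBPn.K698.Wedge1
import Groth.Agent.DeRhamSh.K853.OmegaBridge
import Groth.Agent.S5005
import Groth.Agent.S9370
import Groth.Agent.CycB.LocQuot
import Groth.Agent.Ega2.QCohLocal
import Groth.Agent.Fdesc.LocGenPullback
import Groth.Agent.Ega2.TensGen
import Mathlib.RingTheory.UniqueFactorizationDomain.Basic

/-!
# Wedge with `df`

For `f : X ⟶ C` over `k`, `W = Λ² Ω_X` and `M` inverse to `f^* Ω_C` the morphism `w : Ω_X ⟶ W ⊗ M`, "wedge with `df`".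
-/

set_option autoImplicit false
universe u
open CategoryTheory CategoryTheory.Limits AlgebraicGeometry Opposite TopologicalSpace
open scoped TensorProduct

namespace K83.WedgeDf

open Groth.Agent Groth.Agent.Fdesc Groth.Agent.Ega2.Tens CurvesB.OmegaDer CurvesB.OmegaStalkDict
open KaehlerDifferential

section Alg

/-- A functional on `Ω_{T/k}` which does not vanish on `dt`, for `T/S` formally smooth and `dt` a generator of `Ω_{S/k}`. -/
theorem exists_functional {k S T : Type u} [CommRing k] [CommRing S] [CommRing T] [Algebra k S] [Algebra S T]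
    [Algebra k T] [IsScalarTower k S T] [Algebra.FormallySmooth S T] (e : Ω[S⁄k] ≃ₗ[S] S) (t : S)
    (ht : IsUnit (e (D k S t))) : ∃ ℓ : Ω[T⁄k] →ₗ[T] T, IsUnit (ℓ (D k T (algebraMap S T t))) := by
  have hinj := K584.GenMono.injective_mapBaseChange_of_formallySmooth k S T
  have hex := KaehlerDifferential.exact_mapBaseChange_map k S T
  obtain ⟨s, hs⟩ := Module.projective_lifting_property (KaehlerDifferential.map k S T T) LinearMap.id
    (KaehlerDifferential.map_surjective k S T)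
  let J : T ⊗[S] Ω[S⁄k] ≃ₗ[T] LinearMap.range (KaehlerDifferential.mapBaseChange k S T) :=
    LinearEquiv.ofInjective _ hinj
  let P : Ω[T⁄k] →ₗ[T] LinearMap.range (KaehlerDifferential.mapBaseChange k S T) :=
    LinearMap.codRestrict _ (LinearMap.id - s ∘ₗ KaehlerDifferential.map k S T T) (fun x => by
      apply (hex _).1
      have h1 := LinearMap.congr_fun hs (KaehlerDifferential.map k S T T x)
      simp only [LinearMap.comp_apply, LinearMap.id_apply] at h1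
      simp only [LinearMap.sub_apply, LinearMap.comp_apply, LinearMap.id_apply, map_sub, h1, sub_self])
  let e' : T ⊗[S] Ω[S⁄k] ≃ₗ[T] T :=
    (LinearEquiv.baseChange S T _ _ e).trans (TensorProduct.AlgebraTensorModule.rid S T T)
  refine ⟨e'.toLinearMap ∘ₗ J.symm.toLinearMap ∘ₗ P, ?_⟩
  have h1 : P (D k T (algebraMap S T t)) = J (1 ⊗ₜ D k S t) := by
    apply Subtype.ext
    change D k T (algebraMap S T t) - s (KaehlerDifferential.map k S T T (D k T (algebraMap S T t))) =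
      KaehlerDifferential.mapBaseChange k S T (1 ⊗ₜ D k S t)
    rw [KaehlerDifferential.mapBaseChange_tmul, KaehlerDifferential.map_D, KaehlerDifferential.map_D, one_smul]
    have h2 : D S T (algebraMap T T (algebraMap S T t)) = 0 := Derivation.map_algebraMap _ _
    rw [h2, map_zero, sub_zero]
  have h2 : e' (1 ⊗ₜ D k S t) = algebraMap S T (e (D k S t)) := by
    change TensorProduct.AlgebraTensorModule.rid S T T (1 ⊗ₜ e (D k S t)) = _
    rw [TensorProduct.AlgebraTensorModule.rid_tmul, Algebra.smul_def, mul_one]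
  change IsUnit (e' (J.symm (P (D k T (algebraMap S T t)))))
  rw [h1, LinearEquiv.symm_apply_apply, h2]
  exact ht.map _

/-- coprime coordinates -/
theorem exists_smul_of_relPrime {A : Type*} [CommRing A] [IsDomain A] [UniqueFactorizationMonoid A]
    {c₀ c₁ a₀ a₁ : A} (h : IsRelPrime c₀ c₁) (hrel : a₀ * c₁ = a₁ * c₀) : ∃ u, a₀ = u * c₀ ∧ a₁ = u * c₁ := by
  have h1 : c₀ ∣ a₀ := h.dvd_of_dvd_mul_right (hrel ▸ Dvd.intro_left a₁ rfl)
  obtain ⟨u, hu⟩ := h1
  by_cases h0 : c₀ = 0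
  · subst h0
    rw [isRelPrime_zero_left] at h
    obtain ⟨v, hv⟩ := h
    refine ⟨a₁ * ↑v⁻¹, ?_, ?_⟩
    · rw [hu, zero_mul, mul_zero]
    · rw [← hv, mul_assoc, Units.inv_mul, mul_one]
  · refine ⟨u, by rw [hu, mul_comm], ?_⟩
    rw [hu] at hrel
    have h2 : c₀ * (u * c₁) = c₀ * a₁ := by rw [← mul_assoc, hrel, mul_comm]
    exact (mul_left_cancel₀ h0 h2).symm

end Alg

section Wm

variable {X : Scheme.{u}} {Ω N M W : X.Modules} (c : N ⟶ Ω) (β : CohB1.tensorMod Ω Ω ⟶ W)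
  (a : CohB1.tensorMod M N ≅ Coh.structureModule X)

/-- `ω ↦ (ω ∧ c n) ⊗ m` where `m ⊗ n = 1`. -/
noncomputable def wm : Ω ⟶ CohB1.tensorMod W M :=
  (runit Ω).inv ≫ mapT (𝟙 Ω) (a.inv ≫ swapHom M N) ≫ (assoc Ω N M).inv ≫
    mapT (mapT (𝟙 Ω) c ≫ β) (𝟙 M)

theorem wm_app {U : X.Opens} {m : Γ(M, U)} {n : Γ(N, U)} (h : a.hom.app U (tmul m n) = sm 1) (ω : Γ(Ω, U)) :
    (wm c β a).app U ω = tmul (β.app U (tmul ω (c.app U n))) m := by
  have h1 : a.inv.app U (sm 1) = tmul m n := by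
    rw [← h]
    exact congr($(congr($(a.hom_inv_id).app U)) (tmul m n))
  have h2 : (wm c β a).app U ω = (mapT (mapT (𝟙 Ω) c ≫ β) (𝟙 M)).app U ((assoc Ω N M).inv.app U
      ((mapT (𝟙 Ω) (a.inv ≫ swapHom M N)).app U ((runit Ω).inv.app U ω))) := rfl
  have h3 : (a.inv ≫ swapHom M N).app U (sm 1) = tmul n m := by
    change (swapHom M N).app U (a.inv.app U (sm 1)) = _
    rw [h1, swapHom_tmul]
  have h4 : (assoc Ω N M).inv.app U (tmul ω (tmul n m)) = tmul (tmul ω n) m := assocInv_tmul _ _ _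
  rw [h2, runit_inv_app, mapT_tmul, h3, Scheme.Modules.Hom.id_app]
  change (mapT (mapT (𝟙 Ω) c ≫ β) (𝟙 M)).app U ((assoc Ω N M).inv.app U (tmul ω (tmul n m))) = _
  rw [h4, mapT_tmul]
  change tmul (β.app U ((mapT (𝟙 Ω) c).app U (tmul ω n))) m = _
  rw [mapT_tmul]
  rfl

include a in
/-- `t ↦ t ⊗ m` is injective if `m` is invertible -/
theorem eq_zero_of_tmul {U : X.Opens} {m : Γ(M, U)} {n : Γ(N, U)} (h : a.hom.app U (tmul m n) = sm 1)
    {t : Γ(W, U)} (ht : tmul t m = 0) : t = 0 := by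
  have h1 : (assoc W M N).hom.app U (tmul (tmul t m) n) = tmul t (tmul m n) := assocHom_tmul _ _ _
  rw [ht, zero_tmul, map_zero] at h1
  have h2 := congrArg ((mapT (𝟙 W) a.hom).app U) h1.symm
  rw [mapT_tmul, h, map_zero] at h2
  have h3 := congrArg ((runit W).hom.app U) h2
  rw [runit_hom_tmul, one_smul, map_zero] at h3
  exact h3

end Wm

section Coord

theorem forall_exists_smul {k S : Type u} [Field k] [CommRing S] [Algebra k S] {t : S}
    (h : ∀ s : S, ∃ c : S, D k S s = c • D k S t) (ω : Ω[S⁄k]) : ∃ c : S, ω = c • D k S t := by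
  have h1 : Submodule.span S (Set.range (D k S)) ≤ Submodule.span S {D k S t} := by
    rw [Submodule.span_le]
    rintro _ ⟨s, rfl⟩
    obtain ⟨c, hc⟩ := h s
    exact Submodule.mem_span_singleton.2 ⟨c, hc.symm⟩
  rw [span_range_derivation] at h1
  obtain ⟨c, hc⟩ := Submodule.mem_span_singleton.1 (h1 (show ω ∈ (⊤ : Submodule S (Ω[S⁄k])) from trivial))
  exact ⟨c, hc.symm⟩

variable {k : Type u} [Field k] {C : Scheme.{u}} (πC : C ⟶ Spec (CommRingCat.of k))
  [QuasiCompact (pullback.diagonal πC)]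

/-- A local coordinate: a function whose differential generates the invertible module `Ω_C`. -/
theorem exists_coord (hΩC : FlatMod.IsFinLocFreeOfRank 1 (Omega.sheaf πC)) (z : C) :
    ∃ (V : C.Opens) (_ : z ∈ V) (t : Γ(C, V)), LocGen.IsGen (M := Omega.sheaf πC) (d πC V t) := by
  obtain ⟨V₀, e, hzV, he⟩ := (LocGen.isInvertible_iff (Omega.sheaf πC)).1
    (Groth.Agent.Ega2.QCohLocal.isFinLocFreeOfRank_one_iff.1 hΩC) z
  let _ := stAlg πC z
  let _ := stMod πC (Omega.sheaf πC) z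
  have _ := stTower πC (Omega.sheaf πC) z
  obtain ⟨b⟩ := Krr.H450.ConormalIso.exists_basis_stalk hΩC z
  let L : Ω[C.presheaf.stalk z⁄k] ≃ₗ[C.presheaf.stalk z] (Omega.sheaf πC).presheaf.stalk z :=
    LinearEquiv.ofBijective _ (bijective_stDer πC z)
  have hL : ∀ s : C.presheaf.stalk z, L (D k _ s) = dSt πC z s := fun s =>
    Derivation.liftKaehlerDifferential_comp_D _ _
  obtain ⟨t₀, ht₀⟩ := K83.KerExact.exists_generator (L.trans (b.equivFun.trans (LinearEquiv.funUnique (Fin 1) _ _)))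
  obtain ⟨V₁, hzV₁, t, rfl⟩ := TopCat.Presheaf.exists_germ_eq C.presheaf t₀
  obtain ⟨c, hc⟩ := forall_exists_smul ht₀ (L.symm ((Omega.sheaf πC).presheaf.germ V₀ z hzV e))
  have hc' : (Omega.sheaf πC).presheaf.germ V₀ z hzV e = c • (Omega.sheaf πC).presheaf.germ V₁ z hzV₁ (d πC V₁ t) := by
    have := congrArg L hc
    rwa [L.apply_symm_apply, map_smul, hL, dSt_germ] at this
  obtain ⟨V₂, hzV₂, c₂, rfl⟩ := TopCat.Presheaf.exists_germ_eq C.presheaf c
  let V₃ : C.Opens := V₀ ⊓ V₁ ⊓ V₂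
  have h0 : V₃ ≤ V₀ := inf_le_left.trans inf_le_left
  have h1 : V₃ ≤ V₁ := inf_le_left.trans inf_le_right
  have h2 : V₃ ≤ V₂ := inf_le_right
  have hz3 : z ∈ V₃ := ⟨⟨hzV, hzV₁⟩, hzV₂⟩
  obtain ⟨r, hr⟩ := (he.res h0).exists_eq (d πC V₃ (C.presheaf.map (homOfLE h1).op t))
  have h4 : (Omega.sheaf πC).presheaf.germ V₃ z hz3 (LocGen.res _ h0 e) =
      (Omega.sheaf πC).presheaf.germ V₃ z hz3 ((C.presheaf.map (homOfLE h2).op c₂ * r) • LocGen.res _ h0 e) := by
    rw [mul_smul, ← hr, QCohStalk.germ_smul', QCohStalk.ring_germ_map h2 z hz3 c₂, ← dSt_germ,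
      QCohStalk.ring_germ_map h1 z hz3 t, dSt_germ]
    exact (QCohStalk.germ_map _ h0 z hz3 e).trans hc'
  obtain ⟨W, hzW, i, j, hW⟩ := (Omega.sheaf πC).presheaf.germ_eq z hz3 hz3 _ _ h4
  have h5 : LocGen.res (Omega.sheaf πC) i.le (LocGen.res _ h0 e) =
      LocGen.res (Omega.sheaf πC) i.le ((C.presheaf.map (homOfLE h2).op c₂ * r) • LocGen.res _ h0 e) := hW
  rw [LocGen.res_smul, LocGen.res_res] at h5
  have h6 := (he.res (i.le.trans h0)).ext ((one_smul _ _).trans h5)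
  have h7 : IsUnit (LocGen.ores i.le r) := by
    rw [map_mul] at h6
    exact IsUnit.of_mul_eq_one_right _ h6.symm
  refine ⟨W, hzW, C.presheaf.map (homOfLE (i.le.trans h1)).op t, ?_⟩
  have h8 : d πC W (C.presheaf.map (homOfLE (i.le.trans h1)).op t) =
      LocGen.ores i.le r • LocGen.res (Omega.sheaf πC) (i.le.trans h0) e := by
    have h9 := congrArg (LocGen.res (Omega.sheaf πC) i.le) hr
    rw [LocGen.res_smul, LocGen.res_res] at h9
    refine Eq.trans ?_ h9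
    refine Eq.trans ?_ (d_res πC i.le _).symm
    rw [← C.presheaf.map_comp_apply]
    rfl
  rw [h8]
  exact (he.res _).unit_smul h7

end Coord

section Main

variable {k : Type u} [Field k] {X C : Scheme.{u}} (πX : X ⟶ Spec (CommRingCat.of k))
  [QuasiCompact (pullback.diagonal πX)] (πC : C ⟶ Spec (CommRingCat.of k))
  [QuasiCompact (pullback.diagonal πC)] (f : X ⟶ C)
  (c : (Scheme.Modules.pullback f).obj (Omega.sheaf πC) ⟶ Omega.sheaf πX)
  (hc : ∀ (U : C.Opens) (s : Γ(C, U)), c.app (f ⁻¹ᵁ U) (LocGen.pullSec f (d πC U s)) =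
    d πX (f ⁻¹ᵁ U) (f.app U s))
  {M W : X.Modules} (β : CohB1.tensorMod (Omega.sheaf πX) (Omega.sheaf πX) ⟶ W) (hβ : K698.Wedge.IsWedge β)
  (a : CohB1.tensorMod M ((Scheme.Modules.pullback f).obj (Omega.sheaf πC)) ≅ Coh.structureModule X)

include a in
theorem exists_frame (hΩC : FlatMod.IsFinLocFreeOfRank 1 (Omega.sheaf πC)) (x : X) :
    ∃ (V : C.Opens) (_ : f x ∈ V) (t : Γ(C, V)) (m : Γ(M, f ⁻¹ᵁ V)),
      LocGen.IsGen (M := Omega.sheaf πC) (d πC V t) ∧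
      a.hom.app (f ⁻¹ᵁ V) (tmul m (LocGen.pullSec f (d πC V t))) = sm 1 := by
  obtain ⟨V, hV, t, ht⟩ := exists_coord πC hΩC (f x)
  obtain ⟨m, hm⟩ := Groth.Agent.Ega2.TensGen.exists_eq_tmul (F := M) (ht.pullSec f) (a.inv.app (f ⁻¹ᵁ V) (sm 1))
  refine ⟨V, hV, t, m, ht, ?_⟩
  refine (congrArg (a.hom.app (f ⁻¹ᵁ V)) hm.symm).trans ?_
  exact congr($(congr($(a.inv_hom_id).app (f ⁻¹ᵁ V))) (sm 1))

include hc in
theorem wm_frame {V : C.Opens} {t : Γ(C, V)} {m : Γ(M, f ⁻¹ᵁ V)}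
    (hm : a.hom.app (f ⁻¹ᵁ V) (tmul m (LocGen.pullSec f (d πC V t))) = sm 1) {U : X.Opens} (hU : U ≤ f ⁻¹ᵁ V)
    (ω : Γ(Omega.sheaf πX, U)) :
    (wm c β a).app U ω = tmul (β.app U (tmul ω (d πX U (f.appLE V U hU t)))) (LocGen.res M hU m) := by
  have h1 : a.hom.app U (tmul (LocGen.res M hU m) (LocGen.res _ hU (LocGen.pullSec f (d πC V t)))) = sm 1 := by
    have h2 := congrArg (LocGen.res (Coh.structureModule X) hU) hm
    rw [← LocGen.app_res] at h2
    have h3 : LocGen.res (CohB1.tensorMod M ((Scheme.Modules.pullback f).obj (Omega.sheaf πC))) hU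
      (tmul m (LocGen.pullSec f (d πC V t))) = tmul (LocGen.res M hU m)
        (LocGen.res _ hU (LocGen.pullSec f (d πC V t))) := tmul_res (homOfLE hU) _ _
    rw [h3] at h2
    refine h2.trans ?_
    exact (sm_res (homOfLE hU) 1).trans (congrArg sm (map_one _))
  have h4 : c.app U (LocGen.res _ hU (LocGen.pullSec f (d πC V t))) = d πX U (f.appLE V U hU t) := by
    rw [LocGen.app_res, hc]
    exact d_res πX hU _
  rw [wm_app c β a h1 ω, h4]

include a in
theorem eq_zero_of_frame {V : C.Opens} {t : Γ(C, V)} {m : Γ(M, f ⁻¹ᵁ V)}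
    (hm : a.hom.app (f ⁻¹ᵁ V) (tmul m (LocGen.pullSec f (d πC V t))) = sm 1) {U : X.Opens} (hU : U ≤ f ⁻¹ᵁ V)
    {z : Γ(W, U)} (hz : tmul z (LocGen.res M hU m) = 0) : z = 0 := by
  have h1 : a.hom.app U (tmul (LocGen.res M hU m) (LocGen.res _ hU (LocGen.pullSec f (d πC V t)))) = sm 1 := by
    have h2 := congrArg (LocGen.res (Coh.structureModule X) hU) hm
    rw [← LocGen.app_res] at h2
    have h3 : LocGen.res (CohB1.tensorMod M ((Scheme.Modules.pullback f).obj (Omega.sheaf πC))) hU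
      (tmul m (LocGen.pullSec f (d πC V t))) = tmul (LocGen.res M hU m)
        (LocGen.res _ hU (LocGen.pullSec f (d πC V t))) := tmul_res (homOfLE hU) _ _
    rw [h3] at h2
    refine h2.trans ?_
    exact (sm_res (homOfLE hU) 1).trans (congrArg sm (map_one _))
  exact eq_zero_of_tmul a h1 hz

include hc hβ in
/-- `w` kills the differentials of the functions from `C` -/
theorem δ_wm (hΩC : FlatMod.IsFinLocFreeOfRank 1 (Omega.sheaf πC)) (V : C.Opens) (s : Γ(C, V)) :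
    K83.KerFrob.δ πX (wm c β a) (f ⁻¹ᵁ V) (f.app V s) = 0 := by
  apply VarietyB.TensLoc.eq_of_locally
  intro x hx
  obtain ⟨V₀, hV₀, t, m, ht, hm⟩ := exists_frame πC f a hΩC x
  obtain ⟨g, hg⟩ := (ht.res (inf_le_left : V₀ ⊓ V ≤ V₀)).exists_eq
    (d πC (V₀ ⊓ V) (C.presheaf.map (homOfLE (inf_le_right : V₀ ⊓ V ≤ V)).op s))
  have hle : f ⁻¹ᵁ (V₀ ⊓ V) ≤ f ⁻¹ᵁ V := f.preimage_mono inf_le_right
  refine ⟨f ⁻¹ᵁ (V₀ ⊓ V), hle, ⟨hV₀, hx⟩, ?_⟩
  refine Eq.trans ?_ (map_zero ((CohB1.tensorMod W M).presheaf.map (homOfLE hle).op).hom).symm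
  refine (K83.KerFrob.δ_res πX (wm c β a) hle _).trans ?_
  have h1 : X.presheaf.map (homOfLE hle).op (f.app V s) =
      f.app (V₀ ⊓ V) (C.presheaf.map (homOfLE (inf_le_right : V₀ ⊓ V ≤ V)).op s) :=
    congr($(f.naturality (homOfLE (inf_le_right : V₀ ⊓ V ≤ V)).op) s).symm
  rw [h1, K83.KerFrob.δ_apply, ← hc, hg, LocGen.pullSec_smul, Scheme.Modules.Hom.app_smul,
    Scheme.Modules.Hom.app_smul]
  have h2 : LocGen.res (Omega.sheaf πC) (inf_le_left : V₀ ⊓ V ≤ V₀) (d πC V₀ t) =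
      d πC (V₀ ⊓ V) (C.presheaf.map (homOfLE (inf_le_left : V₀ ⊓ V ≤ V₀)).op t) := d_res πC _ _
  rw [h2, hc]
  have h3 := wm_frame πX πC f c hc β a hm (U := f ⁻¹ᵁ (V₀ ⊓ V)) (f.preimage_mono inf_le_left)
    (d πX _ (f.app (V₀ ⊓ V) (C.presheaf.map (homOfLE (inf_le_left : V₀ ⊓ V ≤ V₀)).op t)))
  have h4 : f.appLE V₀ (f ⁻¹ᵁ (V₀ ⊓ V)) (f.preimage_mono inf_le_left) t =
      f.app (V₀ ⊓ V) (C.presheaf.map (homOfLE (inf_le_left : V₀ ⊓ V ≤ V₀)).op t) :=
    congr($(f.naturality (homOfLE (inf_le_left : V₀ ⊓ V ≤ V₀)).op) t).symm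
  rw [h4] at h3
  have h5 := hβ.alt (f ⁻¹ᵁ (V₀ ⊓ V)) (d πX _ (f.app (V₀ ⊓ V) (C.presheaf.map (homOfLE (inf_le_left : V₀ ⊓ V ≤ V₀)).op t)))
  have h6 : β.app (f ⁻¹ᵁ (V₀ ⊓ V)) (tmul (d πX _ (f.app (V₀ ⊓ V) (C.presheaf.map (homOfLE (inf_le_left : V₀ ⊓ V ≤ V₀)).op t)))
    (d πX _ (f.app (V₀ ⊓ V) (C.presheaf.map (homOfLE (inf_le_left : V₀ ⊓ V ≤ V₀)).op t)))) = 0 := h5
  rw [h6, zero_tmul] at h3
  rw [h3, smul_zero]

end Main

end K83.WedgeDf
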