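import Groth.Agent.Surf.K83.WedgeDf
import Groth.Agent.CycB.StalkLen

/-!
# The kernel of the wedge with `df`
-/

set_option autoImplicit false
universe u
open CategoryTheory CategoryTheory.Limits AlgebraicGeometry Opposite TopologicalSpace
open scoped TensorProduct

namespace K83.WedgeKer

open Groth.Agent Groth.Agent.Fdesc Groth.Agent.Ega2.Tens CurvesB.OmegaDer CurvesB.OmegaStalkDict
open KaehlerDifferential

/-- a generator generates the stalks -/
theorem exists_smul_germ {X : Scheme.{u}} {M : X.Modules} {V : X.Opens} {e : Γ(M, V)} (he : LocGen.IsGen e)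
    {z : X} (hz : z ∈ V) (ω : M.presheaf.stalk z) :
    ∃ r : X.presheaf.stalk z, ω = r • M.presheaf.germ V z hz e := by
  obtain ⟨W, hW, s, rfl⟩ := TopCat.Presheaf.exists_germ_eq M.presheaf ω
  have hzW : z ∈ W ⊓ V := ⟨hW, hz⟩
  obtain ⟨r, hr⟩ := (he.res (inf_le_right : W ⊓ V ≤ V)).exists_eq (LocGen.res M inf_le_left s)
  refine ⟨X.presheaf.germ _ z hzW r, ?_⟩
  have h1 : M.presheaf.germ (W ⊓ V) z hzW (LocGen.res M inf_le_left s) =
      M.presheaf.germ (W ⊓ V) z hzW (r • LocGen.res M inf_le_right e) := congrArg _ hr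
  rw [QCohStalk.germ_smul'] at h1
  have h2 : M.presheaf.germ (W ⊓ V) z hzW (LocGen.res M inf_le_left s) = M.presheaf.germ W z hW s :=
    QCohStalk.germ_map M inf_le_left z hzW s
  have h3 : M.presheaf.germ (W ⊓ V) z hzW (LocGen.res M inf_le_right e) = M.presheaf.germ V z hz e :=
    QCohStalk.germ_map M inf_le_right z hzW e
  rw [h2, h3] at h1
  exact h1

variable {k : Type u} [Field k] {X C : Scheme.{u}} (πX : X ⟶ Spec (CommRingCat.of k))
  [QuasiCompact (pullback.diagonal πX)] (πC : C ⟶ Spec (CommRingCat.of k))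
  [QuasiCompact (pullback.diagonal πC)] (f : X ⟶ C) [LocallyOfFinitePresentation f]

/-- At a point where `f` is smooth, some linear form on `Ω_{X,y}` takes a unit value on `dt`. -/
theorem exists_form (hf : f ≫ πC = πX) (hΩC : FlatMod.IsFinLocFreeOfRank 1 (Omega.sheaf πC)) {V : C.Opens}
    {t : Γ(C, V)} (ht : LocGen.IsGen (M := Omega.sheaf πC) (d πC V t)) (y : X) (hy : f y ∈ V)
    (hsm : y ∈ f.smoothLocus) :
    ∃ ℓ : (Omega.sheaf πX).presheaf.stalk y →ₗ[X.presheaf.stalk y] X.presheaf.stalk y,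
      IsUnit (ℓ (dSt πX y (f.stalkMap y (C.presheaf.germ V (f y) hy t)))) := by
  let _ := stAlg πC (f y)
  let _ := stMod πC (Omega.sheaf πC) (f y)
  have _ := stTower πC (Omega.sheaf πC) (f y)
  let _ := stAlg πX y
  let _ := stMod πX (Omega.sheaf πX) y
  have _ := stTower πX (Omega.sheaf πX) y
  obtain ⟨b⟩ := Krr.H450.ConormalIso.exists_basis_stalk hΩC (f y)
  let LC : Ω[C.presheaf.stalk (f y)⁄k] ≃ₗ[C.presheaf.stalk (f y)] (Omega.sheaf πC).presheaf.stalk (f y) :=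
    LinearEquiv.ofBijective _ (bijective_stDer πC (f y))
  have hLC : ∀ s : C.presheaf.stalk (f y), LC (D k _ s) = dSt πC (f y) s := fun s =>
    Derivation.liftKaehlerDifferential_comp_D _ _
  let LX : Ω[X.presheaf.stalk y⁄k] ≃ₗ[X.presheaf.stalk y] (Omega.sheaf πX).presheaf.stalk y :=
    LinearEquiv.ofBijective _ (bijective_stDer πX y)
  have hLX : ∀ s : X.presheaf.stalk y, LX (D k _ s) = dSt πX y s := fun s =>
    Derivation.liftKaehlerDifferential_comp_D _ _
  let e : Ω[C.presheaf.stalk (f y)⁄k] ≃ₗ[C.presheaf.stalk (f y)] C.presheaf.stalk (f y) :=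
    LC.trans (b.equivFun.trans (LinearEquiv.funUnique (Fin 1) _ _))
  have hunit : IsUnit (e (D k _ (C.presheaf.germ V (f y) hy t))) := by
    obtain ⟨r, hr⟩ := exists_smul_germ ht hy (LC (e.symm 1))
    rw [← dSt_germ, ← hLC, ← map_smul] at hr
    have h1 := congrArg e (LC.injective hr)
    rw [e.apply_symm_apply, map_smul, smul_eq_mul] at h1
    exact IsUnit.of_mul_eq_one_right _ h1.symm
  let _ : Algebra (C.presheaf.stalk (f y)) (X.presheaf.stalk y) := (f.stalkMap y).hom.toAlgebra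
  have _ : IsScalarTower k (C.presheaf.stalk (f y)) (X.presheaf.stalk y) :=
    IsScalarTower.of_algebraMap_eq fun a => (K83.KerExact.stalkMap_stHom πX πC f hf y a).symm
  have hsm' : (f.stalkMap y).hom.FormallySmooth := hsm
  have _ : Algebra.FormallySmooth (C.presheaf.stalk (f y)) (X.presheaf.stalk y) := hsm'
  obtain ⟨ℓ, hℓ⟩ := K83.WedgeDf.exists_functional (k := k) (T := X.presheaf.stalk y) e
    (C.presheaf.germ V (f y) hy t) hunit
  refine ⟨ℓ ∘ₗ LX.symm.toLinearMap, ?_⟩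
  have h1 : LX.symm (dSt πX y (f.stalkMap y (C.presheaf.germ V (f y) hy t))) =
      D k _ (f.stalkMap y (C.presheaf.germ V (f y) hy t)) := by
    rw [LinearEquiv.symm_apply_eq, hLX]
  change IsUnit (ℓ (LX.symm _))
  rw [h1]
  exact hℓ

/-- The coordinates of `dt` do not lie in a prime of height one. -/
theorem notMem_prime (hf : f ≫ πC = πX) (hΩC : FlatMod.IsFinLocFreeOfRank 1 (Omega.sheaf πC)) {V : C.Opens}
    {t : Γ(C, V)} (ht : LocGen.IsGen (M := Omega.sheaf πC) (d πC V t)) {U : X.Opens} (hU : U ≤ f ⁻¹ᵁ V)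
    (v : Fin 2 → Γ(X, U)) (g : Fin 2 → Γ(Omega.sheaf πX, U))
    (hv : d πX U (f.appLE V U hU t) = v 0 • g 0 + v 1 • g 1) {x : X} (hx : x ∈ U)
    (hsm : ∀ y : X, y ⤳ x → ringKrullDim (X.presheaf.stalk y) ≤ 1 → y ∈ f.smoothLocus)
    (P : PrimeSpectrum (X.presheaf.stalk x)) (hP : P.asIdeal.height ≤ 1)
    (h0 : X.presheaf.germ U x hx (v 0) ∈ P.asIdeal) (h1 : X.presheaf.germ U x hx (v 1) ∈ P.asIdeal) : False := by
  have hyx := CycB.LocQuot.ptOf_specializes P
  have hyU : CycB.LocQuot.ptOf P ∈ U := hyx.mem_open U.2 hx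
  have hPy : CycB.LocQuot.primeOf hyx = P := CycB.LocQuot.primeOf_ptOf P
  let _ := CycB.StalkLoc.specAlg hyx
  have hloc := CycB.StalkLen.isLocalization_primeOf hyx
  rw [hPy] at hloc
  have hdim : ringKrullDim (X.presheaf.stalk (CycB.LocQuot.ptOf P)) ≤ 1 := by
    rw [IsLocalization.AtPrime.ringKrullDim_eq_height P.asIdeal]
    exact_mod_cast hP
  obtain ⟨ℓ, hℓ⟩ := exists_form πX πC f hf hΩC ht (CycB.LocQuot.ptOf P) (hU hyU) (hsm _ hyx hdim)
  have hmem : ∀ a : Γ(X, U), X.presheaf.germ U x hx a ∈ P.asIdeal →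
      X.presheaf.germ U (CycB.LocQuot.ptOf P) hyU a ∈ IsLocalRing.maximalIdeal _ := by
    intro a ha
    have h2 := (IsLocalization.AtPrime.to_map_mem_maximal_iff (X.presheaf.stalk (CycB.LocQuot.ptOf P)) P.asIdeal
      (X.presheaf.germ U x hx a)).2 ha
    rw [← CycB.StalkLoc.ring_germ_stalkSpecializes hyx U hx a]
    exact h2
  have h2 : dSt πX (CycB.LocQuot.ptOf P) (f.stalkMap _ (C.presheaf.germ V _ (hU hyU) t)) =
      X.presheaf.germ U _ hyU (v 0) • (Omega.sheaf πX).presheaf.germ U _ hyU (g 0) +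
      X.presheaf.germ U _ hyU (v 1) • (Omega.sheaf πX).presheaf.germ U _ hyU (g 1) := by
    refine (congrArg (dSt πX (CycB.LocQuot.ptOf P))
      (Scheme.Hom.germ_stalkMap_apply f V (CycB.LocQuot.ptOf P) (hU hyU) t)).trans ?_
    refine Eq.trans (dSt_germ πX _ (f ⁻¹ᵁ V) (hU hyU) (f.app V t)) ?_
    rw [← QCohStalk.germ_smul', ← QCohStalk.germ_smul', ← map_add, ← hv]
    refine Eq.trans (QCohStalk.germ_map (Omega.sheaf πX) hU _ hyU _).symm ?_
    exact congrArg _ (d_res πX hU _)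
  rw [h2, map_add, map_smul, map_smul, smul_eq_mul, smul_eq_mul] at hℓ
  have h3 := Ideal.add_mem _ (Ideal.mul_mem_right (ℓ ((Omega.sheaf πX).presheaf.germ U _ hyU (g 0))) _ (hmem _ h0))
    (Ideal.mul_mem_right (ℓ ((Omega.sheaf πX).presheaf.germ U _ hyU (g 1))) _ (hmem _ h1))
  exact (IsLocalRing.mem_maximalIdeal _).1 h3 hℓ

theorem isRelPrime_of_forall {A : Type*} [CommRing A] [IsDomain A] [UniqueFactorizationMonoid A] [IsNoetherianRing A]
    {a b : A} (h : ∀ P : PrimeSpectrum A, P.asIdeal.height ≤ 1 → a ∈ P.asIdeal → b ∈ P.asIdeal → False) :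
    IsRelPrime a b := by
  apply WfDvdMonoid.isRelPrime_of_no_irreducible_factors
  · rintro ⟨rfl, rfl⟩
    refine h ⟨⊥, Ideal.isPrime_bot⟩ ?_ (Ideal.zero_mem _) (Ideal.zero_mem _)
    rw [Ideal.height_bot]
    exact zero_le_one
  · intro q hq hqa hqb
    have hp : Prime q := UniqueFactorizationMonoid.irreducible_iff_prime.1 hq
    have hP : (Ideal.span {q}).IsPrime := (Ideal.span_singleton_prime hp.ne_zero).2 hp
    refine h ⟨Ideal.span {q}, hP⟩ ?_ (Ideal.mem_span_singleton.2 hqa) (Ideal.mem_span_singleton.2 hqb)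
    refine Ideal.height_le_one_of_isPrincipal_of_mem_minimalPrimes (Ideal.span {q}) _ ?_
    rw [Ideal.minimalPrimes_eq_subsingleton_self]
    rfl

section Pair

open Groth.Agent.Sga67.Sec Groth.Agent.Sga67.LocBasis

variable {Ω W : X.Modules} (β : CohB1.tensorMod Ω Ω ⟶ W) (hβ : K698.Wedge.IsWedge β)

include hβ in
omit [LocallyOfFinitePresentation f] in
/-- The wedge pairing in coordinates. -/
theorem pair_eq {U : X.Opens} (g : Fin 2 → Γ(Ω, U)) (s v : Fin 2 → Γ(X, U)) :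
    β.app U (tmul (s 0 • g 0 + s 1 • g 1) (v 0 • g 0 + v 1 • g 1)) =
      (s 0 * v 1 - s 1 * v 0) • β.app U (tmul (g 0) (g 1)) := by
  have h0 : β.app U (tmul (g 0) (g 0)) = 0 := hβ.alt U (g 0)
  have h1 : β.app U (tmul (g 1) (g 1)) = 0 := hβ.alt U (g 1)
  have h2 : β.app U (tmul (g 0 + g 1) (g 0 + g 1)) = 0 := hβ.alt U (g 0 + g 1)
  rw [add_tmul, tmul_add, tmul_add, map_add, map_add, map_add, h0, h1, zero_add, add_zero] at h2
  have h3 : β.app U (tmul (g 1) (g 0)) = -β.app U (tmul (g 0) (g 1)) := by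
    rw [eq_neg_iff_add_eq_zero, add_comm]; exact h2
  rw [add_tmul, tmul_add, tmul_add, smul_tmul, smul_tmul, smul_tmul, smul_tmul, tmul_smul, tmul_smul,
    tmul_smul, tmul_smul, map_add, map_add, map_add]
  simp only [Scheme.Modules.Hom.app_smul]
  rw [h0, h1, h3]
  simp only [smul_zero, smul_neg, zero_add, add_zero, sub_smul, mul_smul]
  abel

end Pair

section Main

open Groth.Agent.Sga67.LocBasis

variable (c : (Scheme.Modules.pullback f).obj (Omega.sheaf πC) ⟶ Omega.sheaf πX)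
  (hc : ∀ (U : C.Opens) (s : Γ(C, U)), c.app (f ⁻¹ᵁ U) (LocGen.pullSec f (d πC U s)) =
    d πX (f ⁻¹ᵁ U) (f.app U s))
  {M W : X.Modules} (β : CohB1.tensorMod (Omega.sheaf πX) (Omega.sheaf πX) ⟶ W) (hβ : K698.Wedge.IsWedge β)
  (a : CohB1.tensorMod M ((Scheme.Modules.pullback f).obj (Omega.sheaf πC)) ≅ Coh.structureModule X)

include hc hβ in
/-- The kernel of `w` at `x` is generated by the differentials of the functions from `C`, if `f` is smooth in
codimension one at `x`. -/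
theorem mem_span_of_wm (hf : f ≫ πC = πX) (hΩC : FlatMod.IsFinLocFreeOfRank 1 (Omega.sheaf πC))
    (hΩ : FlatMod.IsFinLocFreeOfRank 2 (Omega.sheaf πX)) (x : X) [IsDomain (X.presheaf.stalk x)]
    [UniqueFactorizationMonoid (X.presheaf.stalk x)] [IsNoetherianRing (X.presheaf.stalk x)]
    (hsm : ∀ y : X, y ⤳ x → ringKrullDim (X.presheaf.stalk y) ≤ 1 → y ∈ f.smoothLocus)
    (ω : (Omega.sheaf πX).presheaf.stalk x)
    (hω : CycB.StalkExact.stalkLin (K83.WedgeDf.wm c β a) x ω = 0) :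
    ω ∈ Submodule.span (X.presheaf.stalk x) (Set.range fun s : C.presheaf.stalk (f x) =>
        dSt πX x (f.stalkMap x s)) := by
  obtain ⟨V, hV, t, m, ht, hm⟩ := K83.WedgeDf.exists_frame πC f a hΩC x
  obtain ⟨U₀, hxU₀, ⟨e₀⟩⟩ := hΩ x
  obtain ⟨b, hb⟩ := nonempty_restrict_iso_iff.1 ⟨e₀⟩
  obtain ⟨U₁, hxU₁, s, rfl⟩ := TopCat.Presheaf.exists_germ_eq (Omega.sheaf πX).presheaf ω
  rw [CycB.StalkExact.stalkLin_germ] at hω
  have hx2 : x ∈ U₀ ⊓ U₁ ⊓ f ⁻¹ᵁ V := ⟨⟨hxU₀, hxU₁⟩, hV⟩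
  have h21 : U₀ ⊓ U₁ ⊓ f ⁻¹ᵁ V ≤ U₁ := inf_le_left.trans inf_le_right
  rw [← VarietyB.ExactLoc.germ_res _ h21 hx2] at hω
  obtain ⟨U, hU, hxU, h0⟩ := VarietyB.ExactLoc.exists_res_eq_zero _ hx2 _ hω
  have hUU₀ : U ≤ U₀ := hU.trans (inf_le_left.trans inf_le_left)
  have hUU₁ : U ≤ U₁ := hU.trans h21
  have hUV : U ≤ f ⁻¹ᵁ V := hU.trans inf_le_right
  have h1 : (K83.WedgeDf.wm c β a).app U (LocGen.res (Omega.sheaf πX) hUU₁ s) = 0 := by
    rw [LocGen.app_res]
    refine Eq.trans ?_ h0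
    exact (LocGen.res_res _ h21 hU _).symm
  rw [K83.WedgeDf.wm_frame πX πC f c hc β a hm hUV] at h1
  have h2 := K83.WedgeDf.eq_zero_of_frame πC f a hm hUV h1
  obtain ⟨s', hs'⟩ := (hb U hUU₀).2 (LocGen.res (Omega.sheaf πX) hUU₁ s)
  obtain ⟨v, hv⟩ := (hb U hUU₀).2 (d πX U (f.appLE V U hUV t))
  rw [comb_apply, Fin.sum_univ_two] at hs' hv
  let g : Fin 2 → Γ(Omega.sheaf πX, U) := fun i => LocGen.res (Omega.sheaf πX) hUU₀ (b i)
  have hs2 : LocGen.res (Omega.sheaf πX) hUU₁ s = s' 0 • g 0 + s' 1 • g 1 := hs'.symm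
  have hv2 : d πX U (f.appLE V U hUV t) = v 0 • g 0 + v 1 • g 1 := hv.symm
  rw [hs2, hv2, pair_eq β hβ] at h2
  have hgen := (hβ.basis U g (hb.restrict hUU₀)) U le_rfl
  have h3 : s' 0 * v 1 = s' 1 * v 0 := by
    have h4 : (fun _ : Fin 1 => s' 0 * v 1 - s' 1 * v 0) = fun _ => (0 : Γ(X, U)) := by
      apply hgen.1
      rw [comb_apply, comb_apply, Fin.sum_univ_one, Fin.sum_univ_one, zero_smul,
        Groth.Agent.Sga67.Sec.res_self]
      exact h2
    exact sub_eq_zero.1 (congrFun h4 0)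
  have h5 : X.presheaf.germ U x hxU (s' 0) * X.presheaf.germ U x hxU (v 1) =
      X.presheaf.germ U x hxU (s' 1) * X.presheaf.germ U x hxU (v 0) := by
    rw [← map_mul, h3, map_mul]
  have hrel : IsRelPrime (X.presheaf.germ U x hxU (v 0)) (X.presheaf.germ U x hxU (v 1)) :=
    isRelPrime_of_forall fun P hP h6 h7 =>
      notMem_prime πX πC f hf hΩC ht hUV v g hv2 hxU hsm P hP h6 h7
  obtain ⟨u, hu0, hu1⟩ := K83.WedgeDf.exists_smul_of_relPrime hrel h5
  have h6 : (Omega.sheaf πX).presheaf.germ U₁ x hxU₁ s =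
      u • dSt πX x (f.stalkMap x (C.presheaf.germ V (f x) hV t)) := by
    have h7 : dSt πX x (f.stalkMap x (C.presheaf.germ V (f x) hV t)) =
        X.presheaf.germ U x hxU (v 0) • (Omega.sheaf πX).presheaf.germ U x hxU (g 0) +
        X.presheaf.germ U x hxU (v 1) • (Omega.sheaf πX).presheaf.germ U x hxU (g 1) := by
      refine (congrArg (dSt πX x) (Scheme.Hom.germ_stalkMap_apply f V x hV t)).trans ?_
      refine Eq.trans (dSt_germ πX x (f ⁻¹ᵁ V) hV (f.app V t)) ?_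
      rw [← QCohStalk.germ_smul', ← QCohStalk.germ_smul', ← map_add, ← hv2]
      refine Eq.trans (QCohStalk.germ_map (Omega.sheaf πX) hUV x hxU _).symm ?_
      exact congrArg _ (d_res πX hUV _)
    have h8 : (Omega.sheaf πX).presheaf.germ U₁ x hxU₁ s =
        X.presheaf.germ U x hxU (s' 0) • (Omega.sheaf πX).presheaf.germ U x hxU (g 0) +
        X.presheaf.germ U x hxU (s' 1) • (Omega.sheaf πX).presheaf.germ U x hxU (g 1) := by
      rw [← QCohStalk.germ_smul', ← QCohStalk.germ_smul', ← map_add, ← hs2]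
      exact (QCohStalk.germ_map (Omega.sheaf πX) hUU₁ x hxU s).symm
    rw [h7, h8, hu0, hu1, smul_add, smul_smul, smul_smul]
  rw [h6]
  exact Submodule.smul_mem _ _ (Submodule.subset_span ⟨_, rfl⟩)

end Main

end K83.WedgeKer
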