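import Groth.Agent.Surf.K83.WedgeKer

/-!
# The wedge with `df` is surjective on the smooth locus
-/

set_option autoImplicit false
universe u
open CategoryTheory CategoryTheory.Limits AlgebraicGeometry Opposite TopologicalSpace
open scoped TensorProduct

namespace K83.WedgeSurj

open Groth.Agent Groth.Agent.Fdesc Groth.Agent.Ega2.Tens CurvesB.OmegaDer CurvesB.OmegaStalkDict
open KaehlerDifferential Groth.Agent.Sga67.LocBasis

/-- a section with an inverse is a generator, near each point -/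
theorem exists_isGen {X : Scheme.{u}} {M N : X.Modules} (hMi : PicF.IsInvertible M)
    (a : CohB1.tensorMod M N ≅ Coh.structureModule X) {U : X.Opens} {m : Γ(M, U)} {n : Γ(N, U)}
    (h : a.hom.app U (tmul m n) = sm 1) {x : X} (hx : x ∈ U) :
    ∃ (V : X.Opens) (hV : V ≤ U), x ∈ V ∧ LocGen.IsGen (LocGen.res M hV m) := by
  obtain ⟨V₀, e, hxV, he⟩ := (LocGen.isInvertible_iff M).1 hMi x
  obtain ⟨r, hr⟩ := (he.res (inf_le_right : U ⊓ V₀ ≤ V₀)).exists_eq (LocGen.res M inf_le_left m)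
  refine ⟨U ⊓ V₀, inf_le_left, ⟨hx, hxV⟩, ?_⟩
  have h2 := congrArg (LocGen.res (Coh.structureModule X) (inf_le_left : U ⊓ V₀ ≤ U)) h
  rw [← LocGen.app_res] at h2
  have h3 : LocGen.res (CohB1.tensorMod M N) (inf_le_left : U ⊓ V₀ ≤ U) (tmul m n) =
    tmul (LocGen.res M inf_le_left m) (LocGen.res N inf_le_left n) := tmul_res (homOfLE inf_le_left) _ _
  rw [h3, hr, smul_tmul, Scheme.Modules.Hom.app_smul] at h2
  have h4 : LocGen.res (Coh.structureModule X) (inf_le_left : U ⊓ V₀ ≤ U) (sm 1) = sm 1 :=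
    (sm_res (homOfLE inf_le_left) 1).trans (congrArg sm (map_one _))
  rw [h4] at h2
  have h5 : r * (show Γ(X, U ⊓ V₀) from
    a.hom.app (U ⊓ V₀) (tmul (LocGen.res M inf_le_right e) (LocGen.res N inf_le_left n))) = 1 := h2
  rw [hr]
  exact (he.res _).unit_smul (IsUnit.of_mul_eq_one _ h5)

variable {k : Type u} [Field k] {X C : Scheme.{u}} (πX : X ⟶ Spec (CommRingCat.of k))
  [QuasiCompact (pullback.diagonal πX)] (πC : C ⟶ Spec (CommRingCat.of k))
  [QuasiCompact (pullback.diagonal πC)] (f : X ⟶ C) [LocallyOfFinitePresentation f]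
  (c : (Scheme.Modules.pullback f).obj (Omega.sheaf πC) ⟶ Omega.sheaf πX)
  (hc : ∀ (U : C.Opens) (s : Γ(C, U)), c.app (f ⁻¹ᵁ U) (LocGen.pullSec f (d πC U s)) =
    d πX (f ⁻¹ᵁ U) (f.app U s))
  {M W : X.Modules} (β : CohB1.tensorMod (Omega.sheaf πX) (Omega.sheaf πX) ⟶ W) (hβ : K698.Wedge.IsWedge β)
  (a : CohB1.tensorMod M ((Scheme.Modules.pullback f).obj (Omega.sheaf πC)) ≅ Coh.structureModule X)

include hc hβ in
theorem surjective_stalkLin_wm (hMi : PicF.IsInvertible M) (hf : f ≫ πC = πX)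
    (hΩC : FlatMod.IsFinLocFreeOfRank 1 (Omega.sheaf πC))
    (hΩ : FlatMod.IsFinLocFreeOfRank 2 (Omega.sheaf πX)) (x : X) (hsm : x ∈ f.smoothLocus) :
    Function.Surjective (CycB.StalkExact.stalkLin (K83.WedgeDf.wm c β a) x) := by
  intro z
  obtain ⟨V, hV, t, m, ht, hm⟩ := K83.WedgeDf.exists_frame πC f a hΩC x
  obtain ⟨V₁, hV₁, hxV₁, hmg⟩ := exists_isGen hMi a hm hV
  obtain ⟨U₀, hxU₀, ⟨e₀⟩⟩ := hΩ x
  obtain ⟨b, hb⟩ := nonempty_restrict_iso_iff.1 ⟨e₀⟩
  obtain ⟨U₁, hxU₁, s, rfl⟩ := TopCat.Presheaf.exists_germ_eq (CohB1.tensorMod W M).presheaf z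
  let U := U₀ ⊓ U₁ ⊓ V₁
  have hxU : x ∈ U := ⟨⟨hxU₀, hxU₁⟩, hxV₁⟩
  have hUU₀ : U ≤ U₀ := inf_le_left.trans inf_le_left
  have hUU₁ : U ≤ U₁ := inf_le_left.trans inf_le_right
  have hUV₁ : U ≤ V₁ := inf_le_right
  have hUV : U ≤ f ⁻¹ᵁ V := hUV₁.trans hV₁
  have hmU : LocGen.IsGen (LocGen.res M hUV m) := by
    have := hmg.res hUV₁
    rwa [LocGen.res_res] at this
  let g : Fin 2 → Γ(Omega.sheaf πX, U) := fun i => LocGen.res (Omega.sheaf πX) hUU₀ (b i)
  have hg := hβ.basis U g (hb.restrict hUU₀)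
  obtain ⟨v, hv⟩ := (hb U hUU₀).2 (d πX U (f.appLE V U hUV t))
  rw [comb_apply, Fin.sum_univ_two] at hv
  have hv2 : d πX U (f.appLE V U hUV t) = v 0 • g 0 + v 1 • g 1 := hv.symm
  -- the section in terms of the generator
  obtain ⟨w₀, hw₀⟩ := Groth.Agent.Ega2.TensGen.exists_eq_tmul (F := W) hmU
    (LocGen.res (CohB1.tensorMod W M) hUU₁ s)
  obtain ⟨r, hr⟩ := (hg U le_rfl).2 w₀
  rw [comb_apply, Fin.sum_univ_one, Groth.Agent.Sga67.Sec.res_self] at hr
  have hr' : w₀ = r 0 • β.app U (tmul (g 0) (g 1)) := hr.symm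
  have hz : (CohB1.tensorMod W M).presheaf.germ U₁ x hxU₁ s =
      (CohB1.tensorMod W M).presheaf.germ U x hxU (r 0 • tmul (β.app U (tmul (g 0) (g 1))) (LocGen.res M hUV m)) := by
    rw [← smul_tmul, ← hr']
    refine (QCohStalk.germ_map _ hUU₁ x hxU s).symm.trans ?_
    exact congrArg _ hw₀
  -- values of `w`
  have hval : ∀ p : Fin 2 → Γ(X, U), CycB.StalkExact.stalkLin (K83.WedgeDf.wm c β a) x
      ((Omega.sheaf πX).presheaf.germ U x hxU (p 0 • g 0 + p 1 • g 1)) =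
      X.presheaf.germ U x hxU (p 0 * v 1 - p 1 * v 0) • (CohB1.tensorMod W M).presheaf.germ U x hxU
        (tmul (β.app U (tmul (g 0) (g 1))) (LocGen.res M hUV m)) := by
    intro p
    rw [CycB.StalkExact.stalkLin_germ, K83.WedgeDf.wm_frame πX πC f c hc β a hm hUV, hv2,
      K83.WedgeKer.pair_eq β hβ, smul_tmul, QCohStalk.germ_smul']
  obtain ⟨ℓ, hℓ⟩ := K83.WedgeKer.exists_form πX πC f hf hΩC ht x hV hsm
  have h2 : dSt πX x (f.stalkMap x (C.presheaf.germ V (f x) hV t)) =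
      X.presheaf.germ U _ hxU (v 0) • (Omega.sheaf πX).presheaf.germ U _ hxU (g 0) +
      X.presheaf.germ U _ hxU (v 1) • (Omega.sheaf πX).presheaf.germ U _ hxU (g 1) := by
    refine (congrArg (dSt πX x) (Scheme.Hom.germ_stalkMap_apply f V x hV t)).trans ?_
    refine Eq.trans (dSt_germ πX _ (f ⁻¹ᵁ V) hV (f.app V t)) ?_
    rw [← QCohStalk.germ_smul', ← QCohStalk.germ_smul', ← map_add, ← hv2]
    refine Eq.trans (QCohStalk.germ_map (Omega.sheaf πX) hUV _ hxU _).symm ?_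
    exact congrArg _ (d_res πX hUV _)
  have h3 : IsUnit (X.presheaf.germ U x hxU (v 0)) ∨ IsUnit (X.presheaf.germ U x hxU (v 1)) := by
    rw [h2, map_add, map_smul, map_smul, smul_eq_mul, smul_eq_mul] at hℓ
    rcases IsLocalRing.isUnit_or_isUnit_of_isUnit_add hℓ with h | h
    · exact Or.inl (isUnit_of_mul_isUnit_left h)
    · exact Or.inr (isUnit_of_mul_isUnit_left h)
  have hval0 := hval ![1, 0]
  have hval1 := hval ![0, 1]
  simp only [Matrix.cons_val_zero, Matrix.cons_val_one, one_smul, zero_smul, add_zero, zero_add, one_mul, zero_mul,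
    sub_zero, zero_sub, map_neg] at hval0 hval1
  rw [hz, QCohStalk.germ_smul']
  rcases h3 with ⟨q, hq⟩ | ⟨q, hq⟩
  · refine ⟨-(X.presheaf.germ U x hxU (r 0) * ↑q⁻¹) • (Omega.sheaf πX).presheaf.germ U x hxU (g 1), ?_⟩
    rw [map_smul, hval1, smul_smul, ← hq, neg_mul_neg, mul_assoc, Units.inv_mul, mul_one]
  · refine ⟨(X.presheaf.germ U x hxU (r 0) * ↑q⁻¹) • (Omega.sheaf πX).presheaf.germ U x hxU (g 0), ?_⟩
    rw [map_smul, hval0, smul_smul, ← hq, mul_assoc, Units.inv_mul, mul_one]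

end K83.WedgeSurj
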